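import Cfsg.Agent.Lib.Helper99.SympBridge

set_option autoImplicit false
open scoped MatrixGroups

namespace Cfsg.Agent.Lib.Helper99

open Module Submodule

section abstract

variable {F V : Type*} [Field F] [AddCommGroup V] [Module F V]

theorem even_finrank_of_nondegOn [FiniteDimensional F V] {B : LinearMap.BilinForm F V} (hB : B.IsAlt)
    {W : Submodule F V} (hW : NondegOn B W) : Even (finrank F W) := by
  classical
  obtain ⟨ι, _, _, e, π, h1, h2, h3, h4, h5⟩ := hasPlanes (T := LinearMap.id) (z := 1) hB one_ne_zero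
    (fun _ _ => rfl) (fun v => by simp) _ W rfl hW (fun _ h => h)
  set b : ι × Fin 2 → V := fun k => e k.1 k.2 with hb
  have hli : LinearIndependent F b := by
    apply linearIndependent_of_dual B b (fun k => e k.1 (k.2 + 1))
    · rintro ⟨i, s⟩
      fin_cases s
      · exact h1 i
      · show B (e i 1) (e i 0) ≠ 0
        rw [skew_of_alt hB]; exact neg_ne_zero.2 (h1 i)
    · rintro ⟨i, s⟩ ⟨j, s'⟩ hne
      by_cases hij : i = j
      · subst hij
        have hs : s ≠ s' := fun h => hne (by rw [h])
        have : s' + 1 = s := by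
          fin_cases s <;> fin_cases s' <;> simp_all
        show B (e i s) (e i (s' + 1)) = 0
        rw [this]; exact hB _
      · exact h2 i j hij _ _
  rw [← h3, finrank_span_eq_card hli, Fintype.card_prod, Fintype.card_fin]
  exact ⟨Fintype.card ι, by ring⟩

lemma iso_pow {B : LinearMap.BilinForm F V} {T : V →ₗ[F] V} {τ : F}
    (hIso : ∀ u v, B (T u) (T v) = τ * B u v) (k : ℕ) (u v : V) :
    B ((T ^ k) u) ((T ^ k) v) = τ ^ k * B u v := by
  induction k with
  | zero => simp
  | succ k ih =>
    rw [pow_succ', Module.End.mul_apply, Module.End.mul_apply, hIso, ih, pow_succ]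
    ring

/-- The fixed space of an isometry of order prime to the characteristic is non-degenerate. -/
theorem nondegOn_fixed {B : LinearMap.BilinForm F V} (hnd : NondegOn B ⊤) {T : V →ₗ[F] V}
    (hIso : ∀ u v, B (T u) (T v) = B u v) {r : ℕ} (hr : (r : F) ≠ 0) (hT : T ^ r = 1) :
    NondegOn B (LinearMap.ker (T - 1)) := by
  intro u hu hu0
  have hTu : T u = u := by
    rw [LinearMap.mem_ker, LinearMap.sub_apply, Module.End.one_apply] at hu
    exact sub_eq_zero.1 hu
  have hTku : ∀ k : ℕ, (T ^ k) u = u := by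
    intro k
    induction k with
    | zero => simp
    | succ k ih => rw [pow_succ, Module.End.mul_apply, hTu, ih]
  obtain ⟨v, _, hv⟩ := hnd u trivial hu0
  refine ⟨∑ i ∈ Finset.range r, (T ^ i) v, ?_, ?_⟩
  · rw [LinearMap.mem_ker, LinearMap.sub_apply, Module.End.one_apply, sub_eq_zero, map_sum]
    have h1 : ∀ i, T ((T ^ i) v) = (T ^ (i + 1)) v := by
      intro i
      rw [pow_succ', Module.End.mul_apply]
    simp only [h1]
    have h2 := Finset.sum_range_succ (fun i => (T ^ i) v) r
    have h3 := Finset.sum_range_succ' (fun i => (T ^ i) v) r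
    rw [h2, hT] at h3
    simp only [pow_zero, Module.End.one_apply] at h3
    exact (add_right_cancel h3).symm
  · rw [map_sum]
    have h1 : ∀ i ∈ Finset.range r, B u ((T ^ i) v) = B u v := by
      intro i _
      have := iso_pow (B := B) (T := T) (τ := (1 : F)) (by simpa using hIso) i u v
      rw [hTku, one_pow, one_mul] at this
      exact this
    rw [Finset.sum_congr rfl h1, Finset.sum_const, Finset.card_range, nsmul_eq_mul]
    exact mul_ne_zero hr hv

/-- A totally isotropic subspace has at most half the dimension. -/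
theorem two_mul_finrank_le_of_isoOn [FiniteDimensional F V] {B : LinearMap.BilinForm F V} (hB : B.IsAlt)
    (hnd : NondegOn B ⊤) {U : Submodule F V} (hU : IsoOn B U) : 2 * finrank F U ≤ finrank F V := by
  have hN : B.Nondegenerate := by
    constructor
    · intro x hx
      by_contra hx0
      obtain ⟨y, _, hy⟩ := hnd x trivial hx0
      exact hy (hx y)
    · intro y hy
      by_contra hy0
      obtain ⟨x, _, hx⟩ := hnd y trivial hy0
      apply hx
      rw [skew_of_alt hB, hy x, neg_zero]
  have h1 := LinearMap.BilinForm.finrank_orthogonal hN U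
  have h2 : U ≤ B.orthogonal U := by
    intro u hu
    rw [LinearMap.BilinForm.mem_orthogonal_iff]
    intro n hn
    exact hU n hn u hu
  have h3 := Submodule.finrank_mono h2
  have h4 := Submodule.finrank_le U
  omega

end abstract

section transport

variable {F : Type*} [Field F]

/-- If a conjugate of `x` is a similitude of `f`, then `x` is a similitude of a transported form. -/
theorem exists_transported_form {n : ℕ} {f : (Fin n → F) → (Fin n → F) → F}
    (hf : Cfsg.Geo.IsSymplecticForm f) (x P : Matrix.SpecialLinearGroup (Fin n) F)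
    (hP : P⁻¹ * x * P ∈ ((Cfsg.Geo.similarityGroup f).comap (Matrix.SpecialLinearGroup.toGL :
      Matrix.SpecialLinearGroup (Fin n) F →* GL (Fin n) F))) :
    ∃ (G : LinearMap.BilinForm F (Fin n → F)) (τ : F), G.IsAlt ∧ NondegOn G ⊤ ∧ τ ≠ 0 ∧
      ∀ u v, G (Matrix.toLin' (x : Matrix (Fin n) (Fin n) F) u) (Matrix.toLin' (x : Matrix (Fin n) (Fin n) F) v)
        = τ * G u v := by
  obtain ⟨c, hc⟩ := hP
  set y := P⁻¹ * x * P with hy
  have hc' : ∀ u v, f ((y : Matrix (Fin n) (Fin n) F).mulVec u) ((y : Matrix (Fin n) (Fin n) F).mulVec v)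
      = (c : F) * f u v := hc
  set Q : Matrix (Fin n) (Fin n) F := ((P⁻¹ : Matrix.SpecialLinearGroup (Fin n) F) : Matrix (Fin n) (Fin n) F) with hQ
  have hQx : Q * (x : Matrix (Fin n) (Fin n) F) = (y : Matrix (Fin n) (Fin n) F) * Q := by
    have h3 : P⁻¹ * x = y * P⁻¹ := by
      rw [hy, mul_assoc, mul_inv_cancel, mul_one]
    rw [hQ, ← Matrix.SpecialLinearGroup.coe_mul, ← Matrix.SpecialLinearGroup.coe_mul, h3]
  have hQP : Q * (P : Matrix (Fin n) (Fin n) F) = 1 := by
    rw [hQ, ← Matrix.SpecialLinearGroup.coe_mul, inv_mul_cancel, Matrix.SpecialLinearGroup.coe_one]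
  have hPQ : (P : Matrix (Fin n) (Fin n) F) * Q = 1 := by
    rw [hQ, ← Matrix.SpecialLinearGroup.coe_mul, mul_inv_cancel, Matrix.SpecialLinearGroup.coe_one]
  set G : LinearMap.BilinForm F (Fin n → F) :=
    (formB hf.bilinear).comp (Matrix.toLin' Q) (Matrix.toLin' Q) with hG
  have hGa : ∀ u v, G u v = f (Q.mulVec u) (Q.mulVec v) := fun u v => rfl
  refine ⟨G, c, fun u => hf.alternating _, ?_, c.ne_zero, ?_⟩
  · intro w _ hw0
    have hQw : Q.mulVec w ≠ 0 := by
      intro h
      apply hw0
      have := congrArg (fun v => (P : Matrix (Fin n) (Fin n) F).mulVec v) h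
      simpa [Matrix.mulVec_mulVec, hPQ] using this
    obtain ⟨v, hv⟩ := (hf.nondegenerate _ hQw).2
    refine ⟨(P : Matrix (Fin n) (Fin n) F).mulVec v, trivial, ?_⟩
    rw [hGa, Matrix.mulVec_mulVec, hQP, Matrix.one_mulVec]
    exact hv
  · intro u v
    rw [Matrix.toLin'_apply, Matrix.toLin'_apply, hGa, hGa, Matrix.mulVec_mulVec, Matrix.mulVec_mulVec, hQx,
      ← Matrix.mulVec_mulVec, ← Matrix.mulVec_mulVec, hc']

/-- A vector orthogonal to the standard basis is zero. -/
lemma eq_zero_of_forall_single {n : ℕ} {G : LinearMap.BilinForm F (Fin n → F)} (hnd : NondegOn G ⊤)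
    (w : Fin n → F) (hw : ∀ j, G w (Pi.single j 1) = 0) : w = 0 := by
  have h3 : G w = 0 := by
    apply (Pi.basisFun F (Fin n)).ext
    intro j
    rw [Pi.basisFun_apply]
    exact hw j
  by_contra hw0
  obtain ⟨v, _, hv⟩ := hnd w trivial hw0
  apply hv
  rw [h3]; rfl

/-- The multiplier of a similitude `x` with `x ^ r = 1` is an `r`-th root of unity. -/
lemma multiplier_pow_eq_one {n : ℕ} (hn : 0 < n) {G : LinearMap.BilinForm F (Fin n → F)} (hnd : NondegOn G ⊤)
    {T : (Fin n → F) →ₗ[F] (Fin n → F)} {τ : F} (hIso : ∀ u v, G (T u) (T v) = τ * G u v) {r : ℕ}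
    (hT : T ^ r = 1) : τ ^ r = 1 := by
  have hne : (Pi.single ⟨0, hn⟩ 1 : Fin n → F) ≠ 0 := by
    intro h
    have := congrFun h ⟨0, hn⟩
    simp at this
  obtain ⟨v, _, hv⟩ := hnd _ trivial hne
  have := iso_pow hIso r (Pi.single ⟨0, hn⟩ 1) v
  rw [hT, Module.End.one_apply, Module.End.one_apply] at this
  have h2 : (τ ^ r - 1) * G (Pi.single ⟨0, hn⟩ 1) v = 0 := by
    rw [sub_mul, ← this, one_mul, sub_self]
  exact sub_eq_zero.1 ((mul_eq_zero.1 h2).resolve_right hv)

end transport

end Cfsg.Agent.Lib.Helper99
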