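import Cfsg.Agent.Lib.Helper6.SLCard

set_option autoImplicit false
open scoped MatrixGroups

namespace Cfsg.Agent.Lib.Helper99

open Module Submodule

variable {F : Type*} [Field F]

/-- The block matrix `diag(A, 1)`. -/
def blockMat (c k : ℕ) (A : Matrix (Fin c) (Fin c) F) : Matrix (Fin (c + k)) (Fin (c + k)) F :=
  (Matrix.fromBlocks A 0 0 (1 : Matrix (Fin k) (Fin k) F)).submatrix finSumFinEquiv.symm finSumFinEquiv.symm

lemma blockMat_one (c k : ℕ) : blockMat c k (1 : Matrix (Fin c) (Fin c) F) = 1 := by
  rw [blockMat, Matrix.fromBlocks_one, Matrix.submatrix_one_equiv]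

lemma blockMat_mul (c k : ℕ) (A B : Matrix (Fin c) (Fin c) F) :
    blockMat c k (A * B) = blockMat c k A * blockMat c k B := by
  rw [blockMat, blockMat, blockMat, Matrix.submatrix_mul_equiv, Matrix.fromBlocks_multiply]
  simp

lemma blockMat_det (c k : ℕ) (A : Matrix (Fin c) (Fin c) F) : (blockMat c k A).det = A.det := by
  rw [blockMat, Matrix.det_submatrix_equiv_self, Matrix.det_fromBlocks_zero₂₁, Matrix.det_one, mul_one]

lemma blockMat_castAdd (c k : ℕ) (A : Matrix (Fin c) (Fin c) F) (i j : Fin c) :
    blockMat c k A (Fin.castAdd k i) (Fin.castAdd k j) = A i j := by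
  simp [blockMat]

lemma blockMat_natAdd_right (c k : ℕ) (A : Matrix (Fin c) (Fin c) F) (i : Fin (c + k)) (j : Fin k) :
    blockMat c k A i (Fin.natAdd c j) = if i = Fin.natAdd c j then 1 else 0 := by
  obtain ⟨i', rfl⟩ := finSumFinEquiv.surjective i
  rcases i' with i' | i'
  · have : Fin.castAdd k i' ≠ Fin.natAdd c j := by
      intro h
      have := congrArg Fin.val h
      simp at this
      omega
    simp [blockMat, this]
  · simp [blockMat, Matrix.one_apply]

/-- The block embedding `A ↦ diag(A, 1)`. -/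
def blockEmb (c k : ℕ) : Matrix.SpecialLinearGroup (Fin c) F →* Matrix.SpecialLinearGroup (Fin (c + k)) F where
  toFun A := ⟨blockMat c k (A : Matrix (Fin c) (Fin c) F), by rw [blockMat_det, A.2]⟩
  map_one' := Subtype.ext (blockMat_one c k)
  map_mul' A B := Subtype.ext (blockMat_mul c k _ _)

lemma blockEmb_coe (c k : ℕ) (A : Matrix.SpecialLinearGroup (Fin c) F) :
    ((blockEmb c k A : Matrix.SpecialLinearGroup (Fin (c + k)) F) : Matrix (Fin (c + k)) (Fin (c + k)) F)
      = blockMat c k (A : Matrix (Fin c) (Fin c) F) := rfl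

lemma blockEmb_injective (c k : ℕ) : Function.Injective (blockEmb (F := F) c k) := by
  intro A B hAB
  apply Subtype.ext
  ext i j
  have := congrFun (congrFun (congrArg Subtype.val hAB) (Fin.castAdd k i)) (Fin.castAdd k j)
  change blockMat c k _ _ _ = blockMat c k _ _ _ at this
  rwa [blockMat_castAdd, blockMat_castAdd] at this

lemma blockEmb_mulVec_single (c k : ℕ) (A : Matrix.SpecialLinearGroup (Fin c) F) (j : Fin k) :
    ((blockEmb c k A : Matrix.SpecialLinearGroup (Fin (c + k)) F) : Matrix (Fin (c + k)) (Fin (c + k)) F).mulVec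
      (Pi.single (Fin.natAdd c j) 1) = Pi.single (Fin.natAdd c j) 1 := by
  rw [Matrix.mulVec_single_one, blockEmb_coe]
  ext i
  rw [Matrix.col_apply, blockMat_natAdd_right, Pi.single_apply]

/-- The action on vectors as a monoid homomorphism into self-maps. -/
def vecAct (n : ℕ) : Matrix.SpecialLinearGroup (Fin n) F →* Function.End (Fin n → F) where
  toFun A := fun v => (A : Matrix (Fin n) (Fin n) F).mulVec v
  map_one' := by
    funext v
    exact Matrix.one_mulVec v
  map_mul' A B := by
    funext v
    show ((A * B : Matrix.SpecialLinearGroup (Fin n) F) : Matrix (Fin n) (Fin n) F).mulVec v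
      = (A : Matrix (Fin n) (Fin n) F).mulVec ((B : Matrix (Fin n) (Fin n) F).mulVec v)
    rw [Matrix.mulVec_mulVec, Matrix.SpecialLinearGroup.coe_mul]

/-- Fixed-point congruence for an element with `x ^ r = 1`. -/
theorem pow_finrank_fixed_modEq [Fintype F] {n r : ℕ} [Fact r.Prime]
    (x : Matrix.SpecialLinearGroup (Fin n) F) (hx : x ^ r = 1) :
    Fintype.card F ^ n ≡ Fintype.card F ^
      finrank F (LinearMap.ker (Matrix.toLin' (x : Matrix (Fin n) (Fin n) F) - 1)) [MOD r] := by
  classical
  have h1 : (vecAct n x) ^ r ^ 1 = 1 := by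
    rw [pow_one, ← map_pow, hx, map_one]
  have h2 := Equiv.Perm.card_fixedPoints_modEq h1
  have h3 : Fintype.card (Fin n → F) = Fintype.card F ^ n := by simp
  rw [h3] at h2
  obtain ⟨b, hb, h2'⟩ : ∃ b, b = Fintype.card F ^
      finrank F (LinearMap.ker (Matrix.toLin' (x : Matrix (Fin n) (Fin n) F) - 1)) ∧
      Fintype.card F ^ n ≡ b [MOD r] := by
    refine ⟨_, ?_, h2⟩
    rw [Fintype.card_eq_nat_card, ← Nat.card_eq_fintype_card (α := F), ← Module.natCard_eq_pow_finrank]
    apply Nat.card_congr
    apply Equiv.subtypeEquivRight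
    intro v
    rw [LinearMap.mem_ker, LinearMap.sub_apply, Module.End.one_apply, sub_eq_zero, Matrix.toLin'_apply]
    rfl
  rw [hb] at h2'
  exact h2'

/-- The codimension of the fixed space is a multiple of the order of `q` modulo `r`. -/
theorem orderOf_dvd_codim_fixed [Fintype F] {n r : ℕ} [Fact r.Prime] (hrq : ¬ r ∣ Fintype.card F)
    (x : Matrix.SpecialLinearGroup (Fin n) F) (hx : x ^ r = 1) :
    orderOf ((Fintype.card F : ℕ) : ZMod r) ∣
      n - finrank F (LinearMap.ker (Matrix.toLin' (x : Matrix (Fin n) (Fin n) F) - 1)) := by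
  set d := finrank F (LinearMap.ker (Matrix.toLin' (x : Matrix (Fin n) (Fin n) F) - 1)) with hd
  have hdn : d ≤ n := by
    have := Submodule.finrank_le (LinearMap.ker (Matrix.toLin' (x : Matrix (Fin n) (Fin n) F) - 1))
    simpa using this
  have h1 := (ZMod.natCast_eq_natCast_iff _ _ _).2 (pow_finrank_fixed_modEq x hx)
  rw [← hd] at h1
  push_cast at h1
  have hq0 : ((Fintype.card F : ℕ) : ZMod r) ≠ 0 := by
    rw [Ne, ZMod.natCast_eq_zero_iff]
    exact hrq
  apply orderOf_dvd_of_pow_eq_one
  have h2 : ((Fintype.card F : ℕ) : ZMod r) ^ d * ((Fintype.card F : ℕ) : ZMod r) ^ (n - d)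
      = ((Fintype.card F : ℕ) : ZMod r) ^ d * 1 := by
    rw [← pow_add, mul_one, ← h1]
    congr 1
    omega
  exact mul_left_cancel₀ (pow_ne_zero _ hq0) h2

/-- An element of order `r` whose fixed space has codimension the order `c ≥ 2` of `q` modulo `r`. -/
theorem exists_order_r_fixed_codim [Fintype F] {r : ℕ} [Fact r.Prime] (hrq : ¬ r ∣ Fintype.card F)
    (c k : ℕ) (hc : c = orderOf ((Fintype.card F : ℕ) : ZMod r)) (hc2 : 2 ≤ c) :
    ∃ x : Matrix.SpecialLinearGroup (Fin (c + k)) F, x ^ r = 1 ∧ x ≠ 1 ∧
      finrank F (LinearMap.ker (Matrix.toLin' (x : Matrix (Fin (c + k)) (Fin (c + k)) F) - 1)) = k := by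
  classical
  have hr : r.Prime := Fact.out
  have hq1 := Fintype.one_lt_card (α := F)
  have hdvd : ∀ e : ℕ, r ∣ Fintype.card F ^ e - 1 ↔ ((Fintype.card F : ℕ) : ZMod r) ^ e = 1 := by
    intro e
    have h1 : 1 ≤ Fintype.card F ^ e := Nat.one_le_pow _ _ (by omega)
    rw [← ZMod.natCast_eq_zero_iff, Nat.cast_sub h1, sub_eq_zero]
    push_cast
    rfl
  have hrc : r ∣ Fintype.card F ^ c - 1 := by
    rw [hdvd, hc]; exact pow_orderOf_eq_one _
  have hr1 : ¬ r ∣ Fintype.card F - 1 := by
    intro h
    have h1 := (hdvd 1).1 (by simpa using h)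
    have := orderOf_dvd_of_pow_eq_one h1
    rw [← hc] at this
    have := Nat.le_of_dvd one_pos this
    omega
  have hSL : r ∣ Nat.card (Matrix.SpecialLinearGroup (Fin c) F) := by
    have h1 := Cfsg.Agent.Lib.Helper6.card_SL_field (F := F) c (by omega)
    have h2 : r ∣ ∏ i : Fin c, (Fintype.card F ^ c - Fintype.card F ^ (i : ℕ)) := by
      apply Dvd.dvd.trans _ (Finset.dvd_prod_of_mem _ (Finset.mem_univ (⟨0, by omega⟩ : Fin c)))
      simpa using hrc
    rw [← h1] at h2
    exact (hr.dvd_mul.1 h2).resolve_left hr1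
  obtain ⟨A, hA⟩ := exists_prime_orderOf_dvd_card' r hSL
  refine ⟨blockEmb c k A, ?_, ?_, ?_⟩
  · rw [← map_pow, ← hA, pow_orderOf_eq_one, map_one]
  · intro h
    have h1 : A = 1 := blockEmb_injective c k (by rw [h, map_one])
    rw [h1, orderOf_one] at hA
    exact hr.one_lt.ne hA
  · set x := blockEmb c k A with hx
    have hxr : x ^ r = 1 := by rw [hx, ← map_pow, ← hA, pow_orderOf_eq_one, map_one]
    have hx1 : x ≠ 1 := by
      intro h
      have h1 : A = 1 := blockEmb_injective c k (by rw [← hx, h, map_one])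
      rw [h1, orderOf_one] at hA
      exact hr.one_lt.ne hA
    set K := LinearMap.ker (Matrix.toLin' (x : Matrix (Fin (c + k)) (Fin (c + k)) F) - 1) with hK
    have h1 := orderOf_dvd_codim_fixed hrq x hxr
    rw [← hc, ← hK] at h1
    have hle : finrank F K ≤ c + k := by
      have := Submodule.finrank_le K
      simpa using this
    have hlt : finrank F K ≠ c + k := by
      intro h
      apply hx1
      have htop : K = ⊤ := by
        apply Submodule.eq_top_of_finrank_eq
        rw [h]; simp
      apply Subtype.ext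
      apply Matrix.toLin'.injective
      apply LinearMap.ext
      intro v
      have : v ∈ K := by rw [htop]; trivial
      rw [hK, LinearMap.mem_ker, LinearMap.sub_apply, Module.End.one_apply, sub_eq_zero] at this
      rw [this]
      simp
    have hge : k ≤ finrank F K := by
      have hli : LinearIndependent F (fun j : Fin k => (Pi.single (Fin.natAdd c j) 1 : Fin (c + k) → F)) := by
        have := (Pi.basisFun F (Fin (c + k))).linearIndependent.comp (Fin.natAdd c)
          (Fin.natAdd_injective k c)
        convert this using 1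
        funext j
        simp
      have hsp : span F (Set.range (fun j : Fin k => (Pi.single (Fin.natAdd c j) 1 : Fin (c + k) → F))) ≤ K := by
        rw [span_le]
        rintro _ ⟨j, rfl⟩
        show _ ∈ K
        rw [hK, LinearMap.mem_ker, LinearMap.sub_apply, Module.End.one_apply, sub_eq_zero, Matrix.toLin'_apply]
        exact blockEmb_mulVec_single c k A j
      have := Submodule.finrank_mono hsp
      rw [finrank_span_eq_card hli, Fintype.card_fin] at this
      exact this
    have hpos : 0 < c + k - finrank F K := by omega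
    have := Nat.le_of_dvd hpos h1
    omega

end Cfsg.Agent.Lib.Helper99
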