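import Mathlib

set_option autoImplicit false

namespace Cfsg.Agent.Lib.Helper99

open Finset

section aux
variable {ι : Type} [DecidableEq ι] (π : Equiv.Perm ι) (k : ι → ℕ)

/-- Orbit representatives of the moved points in `Y`. -/
def repSet (Y : Finset ι) : Finset ι := Y.filter (fun i => k i < k (π i))

/-- Fixed points in `Y`. -/
def fixSet (Y : Finset ι) : Finset ι := Y.filter (fun i => π i = i)

variable {π k}

lemma disjoint_rep_image (hπ : ∀ i, π (π i) = i) {Y R₀ : Finset ι} (h : R₀ ⊆ repSet π k Y) :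
    Disjoint R₀ (R₀.image π) := by
  rw [Finset.disjoint_left]
  intro i hi hi'
  obtain ⟨j, hj, rfl⟩ := Finset.mem_image.1 hi'
  have h1 := (Finset.mem_filter.1 (h hi)).2
  have h2 := (Finset.mem_filter.1 (h hj)).2
  rw [hπ] at h1
  omega

lemma disjoint_rep_fix (hπ : ∀ i, π (π i) = i) {Y R₀ F₀ : Finset ι} (h : R₀ ⊆ repSet π k Y)
    (h' : F₀ ⊆ fixSet π Y) : Disjoint (R₀ ∪ R₀.image π) F₀ := by
  rw [Finset.disjoint_left]
  intro i hi hi'
  have h3 := (Finset.mem_filter.1 (h' hi')).2
  rcases Finset.mem_union.1 hi with hi | hi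
  · have h1 := (Finset.mem_filter.1 (h hi)).2
    rw [h3] at h1
    omega
  · obtain ⟨j, hj, rfl⟩ := Finset.mem_image.1 hi
    have h1 := (Finset.mem_filter.1 (h hj)).2
    rw [hπ] at h3
    rw [← h3] at h1
    omega

lemma card_rep_union (hπ : ∀ i, π (π i) = i) {Y R₀ F₀ : Finset ι} (h : R₀ ⊆ repSet π k Y)
    (h' : F₀ ⊆ fixSet π Y) : (R₀ ∪ R₀.image π ∪ F₀).card = 2 * R₀.card + F₀.card := by
  rw [Finset.card_union_of_disjoint (disjoint_rep_fix hπ h h'),
    Finset.card_union_of_disjoint (disjoint_rep_image hπ h),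
    Finset.card_image_of_injective _ π.injective]
  ring

lemma rep_union_eq (hπ : ∀ i, π (π i) = i) (hk : Function.Injective k) {Y : Finset ι}
    (hY : ∀ i ∈ Y, π i ∈ Y) :
    repSet π k Y ∪ (repSet π k Y).image π ∪ fixSet π Y = Y := by
  ext i
  simp only [Finset.mem_union, Finset.mem_image, repSet, fixSet, Finset.mem_filter]
  constructor
  · rintro ((h | ⟨j, hj, rfl⟩) | h)
    · exact h.1
    · exact hY j hj.1
    · exact h.1
  · intro hi
    rcases lt_trichotomy (k i) (k (π i)) with h | h | h
    · exact Or.inl (Or.inl ⟨hi, h⟩)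
    · exact Or.inr ⟨hi, (hk h).symm⟩
    · exact Or.inl (Or.inr ⟨π i, ⟨hY i hi, by rw [hπ]; exact h⟩, hπ i⟩)

lemma rep_union_invariant (hπ : ∀ i, π (π i) = i) {Y R₀ F₀ : Finset ι}
    (h' : F₀ ⊆ fixSet π Y) : ∀ i ∈ R₀ ∪ R₀.image π ∪ F₀, π i ∈ R₀ ∪ R₀.image π ∪ F₀ := by
  intro i hi
  simp only [Finset.mem_union, Finset.mem_image] at hi ⊢
  rcases hi with (h | ⟨j, hj, rfl⟩) | h
  · exact Or.inl (Or.inr ⟨i, h, rfl⟩)
  · rw [hπ]; exact Or.inl (Or.inl hj)
  · rw [(Finset.mem_filter.1 (h' h)).2]; exact Or.inr h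

lemma rep_union_subset {Y R₀ F₀ : Finset ι} (hY : ∀ i ∈ Y, π i ∈ Y) (h : R₀ ⊆ repSet π k Y)
    (h' : F₀ ⊆ fixSet π Y) : R₀ ∪ R₀.image π ∪ F₀ ⊆ Y := by
  intro i hi
  simp only [Finset.mem_union, Finset.mem_image] at hi
  rcases hi with (h1 | ⟨j, hj, rfl⟩) | h1
  · exact (Finset.mem_filter.1 (h h1)).1
  · exact hY j (Finset.mem_filter.1 (h hj)).1
  · exact (Finset.mem_filter.1 (h' h1)).1

end aux

theorem exists_blocks_aux {ι : Type} [Fintype ι] [DecidableEq ι] (π : Equiv.Perm ι)
    (hπ : ∀ i, π (π i) = i) (a : ℕ) (ha : 0 < a) :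
    ∀ (N : ℕ) (Y : Finset ι), Y.card = N → (∀ i ∈ Y, π i ∈ Y) → a ∣ N →
    ∃ (τ : Type) (_ : Fintype τ) (Bk : τ → Finset ι) (σ : Equiv.Perm τ),
      (∀ j, (Bk j).card = a) ∧ (∀ j, Bk j ⊆ Y) ∧ (∀ j k, j ≠ k → Disjoint (Bk j) (Bk k)) ∧
      (∀ i ∈ Y, ∃ j, i ∈ Bk j) ∧ (∀ j, ∀ i ∈ Bk j, π i ∈ Bk (σ j)) := by
  intro N
  induction N using Nat.strong_induction_on with
  | _ N ih =>
    intro Y hN hY hdvd
    rcases Nat.eq_zero_or_pos N with h0 | hpos
    · subst h0
      have hYe : Y = ∅ := Finset.card_eq_zero.1 hN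
      refine ⟨Empty, inferInstance, fun e => e.elim, 1, fun e => e.elim, fun e => e.elim,
        fun e => e.elim, ?_, fun e => e.elim⟩
      intro i hi
      rw [hYe] at hi
      simp at hi
    · have hle : a ≤ N := Nat.le_of_dvd hpos hdvd
      set k : ι → ℕ := fun i => (Fintype.equivFin ι i : ℕ) with hkdef
      have hk : Function.Injective k := by
        intro i j hij
        exact (Fintype.equivFin ι).injective (Fin.ext hij)
      have hcard : N = 2 * (repSet π k Y).card + (fixSet π Y).card := by
        rw [← card_rep_union hπ (le_refl _) (le_refl _), rep_union_eq hπ hk hY, hN]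
      -- the step removing an invariant subset
      have hsdiff : ∀ Z : Finset ι, Z ⊆ Y → (∀ i ∈ Z, π i ∈ Z) → ∀ i ∈ Y \ Z, π i ∈ Y \ Z := by
        intro Z _ hZ i hi
        rw [Finset.mem_sdiff] at hi ⊢
        refine ⟨hY i hi.1, fun h => hi.2 ?_⟩
        have := hZ _ h
        rwa [hπ] at this
      by_cases hA : Even a ∨ 0 < (fixSet π Y).card
      · -- one invariant block
        set s := min (repSet π k Y).card (a / 2) with hs
        have hs1 : s ≤ (repSet π k Y).card := min_le_left _ _
        have hs2 : s ≤ a / 2 := min_le_right _ _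
        have hf : a - 2 * s ≤ (fixSet π Y).card := by
          rcases le_total (repSet π k Y).card (a / 2) with h | h
          · have : s = (repSet π k Y).card := min_eq_left h
            omega
          · have : s = a / 2 := min_eq_right h
            rcases hA with ⟨c, hc⟩ | hA
            · omega
            · omega
        obtain ⟨R₀, hR₀, hR₀c⟩ := Finset.exists_subset_card_eq hs1
        obtain ⟨F₀, hF₀, hF₀c⟩ := Finset.exists_subset_card_eq hf
        set Z := R₀ ∪ R₀.image π ∪ F₀ with hZ
        have hZc : Z.card = a := by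
          rw [hZ, card_rep_union hπ hR₀ hF₀, hR₀c, hF₀c]; omega
        have hZY : Z ⊆ Y := rep_union_subset hY hR₀ hF₀
        have hZinv : ∀ i ∈ Z, π i ∈ Z := rep_union_invariant hπ hF₀
        have hc' : (Y \ Z).card = N - a := by
          rw [Finset.card_sdiff_of_subset hZY, hN, hZc]
        obtain ⟨τ, _, Bk, σ, h1, h2, h3, h4, h5⟩ := ih (N - a) (by omega) (Y \ Z) hc'
          (hsdiff Z hZY hZinv) ((Nat.dvd_sub_iff_left hle (dvd_refl a)).2 hdvd)
        refine ⟨Option τ, inferInstance, fun o => o.elim Z Bk, Equiv.optionCongr σ, ?_, ?_, ?_, ?_, ?_⟩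
        · rintro (_ | j)
          · exact hZc
          · exact h1 j
        · rintro (_ | j)
          · exact hZY
          · exact (h2 j).trans Finset.sdiff_subset
        · rintro (_ | j) (_ | j') hne
          · exact absurd rfl hne
          · exact (Finset.disjoint_of_subset_right (h2 j') Finset.disjoint_sdiff)
          · exact (Finset.disjoint_of_subset_left (h2 j) Finset.sdiff_disjoint)
          · exact h3 j j' (fun h => hne (by rw [h]))
        · intro i hi
          by_cases hiZ : i ∈ Z
          · exact ⟨none, hiZ⟩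
          · obtain ⟨j, hj⟩ := h4 i (Finset.mem_sdiff.2 ⟨hi, hiZ⟩)
            exact ⟨some j, hj⟩
        · rintro (_ | j) i hi
          · exact hZinv i hi
          · exact h5 j i hi
      · -- two swapped blocks
        push Not at hA
        obtain ⟨hodd, hfix⟩ := hA
        have hfix0 : (fixSet π Y).card = 0 := by omega
        have hdvd' : a ∣ (repSet π k Y).card := by
          have h1 : a ∣ 2 * (repSet π k Y).card := by
            rw [hfix0, add_zero] at hcard
            rw [← hcard]; exact hdvd
          have hcop : Nat.Coprime a 2 := by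
            rw [Nat.coprime_two_right]
            exact Nat.not_even_iff_odd.1 hodd
          exact hcop.dvd_of_dvd_mul_left h1
        have hle' : a ≤ (repSet π k Y).card := Nat.le_of_dvd (by omega) hdvd'
        obtain ⟨R₀, hR₀, hR₀c⟩ := Finset.exists_subset_card_eq hle'
        have hF₀ : (∅ : Finset ι) ⊆ fixSet π Y := Finset.empty_subset _
        set Z := R₀ ∪ R₀.image π ∪ ∅ with hZ
        have hZc : Z.card = 2 * a := by
          rw [hZ, card_rep_union hπ hR₀ hF₀, hR₀c]; simp
        have hZY : Z ⊆ Y := rep_union_subset hY hR₀ hF₀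
        have hZinv : ∀ i ∈ Z, π i ∈ Z := rep_union_invariant hπ hF₀
        have hc' : (Y \ Z).card = N - 2 * a := by
          rw [Finset.card_sdiff_of_subset hZY, hN, hZc]
        have hle2 : 2 * a ≤ N := by omega
        obtain ⟨τ, _, Bk, σ, h1, h2, h3, h4, h5⟩ := ih (N - 2 * a) (by omega) (Y \ Z) hc'
          (hsdiff Z hZY hZinv) ((Nat.dvd_sub_iff_left hle2 (Dvd.intro_left 2 rfl)).2 hdvd)
        have hRZ : R₀ ⊆ Z := by
          intro i hi; simp only [hZ, Finset.mem_union]; exact Or.inl (Or.inl hi)
        have hRZ' : R₀.image π ⊆ Z := by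
          intro i hi; simp only [hZ, Finset.mem_union]; exact Or.inl (Or.inr hi)
        refine ⟨τ ⊕ Bool, inferInstance, Sum.elim Bk (fun b => if b then R₀ else R₀.image π),
          Equiv.sumCongr σ Equiv.boolNot, ?_, ?_, ?_, ?_, ?_⟩
        · rintro (j | (_ | _))
          · exact h1 j
          · simp [Finset.card_image_of_injective _ π.injective, hR₀c]
          · simp [hR₀c]
        · rintro (j | (_ | _))
          · exact (h2 j).trans Finset.sdiff_subset
          · simpa using hRZ'.trans hZY
          · simpa using hRZ.trans hZY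
        · rintro (j | (_ | _)) (j' | (_ | _)) hne
          · exact h3 j j' (fun h => hne (by rw [h]))
          · simpa using Finset.disjoint_of_subset_left (h2 j)
              (Finset.disjoint_of_subset_right hRZ' Finset.sdiff_disjoint)
          · simpa using Finset.disjoint_of_subset_left (h2 j)
              (Finset.disjoint_of_subset_right hRZ Finset.sdiff_disjoint)
          · simpa using Finset.disjoint_of_subset_right (h2 j')
              (Finset.disjoint_of_subset_left hRZ' Finset.disjoint_sdiff)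
          · exact absurd rfl hne
          · simpa using (disjoint_rep_image hπ hR₀).symm
          · simpa using Finset.disjoint_of_subset_right (h2 j')
              (Finset.disjoint_of_subset_left hRZ Finset.disjoint_sdiff)
          · simpa using (disjoint_rep_image hπ hR₀)
          · exact absurd rfl hne
        · intro i hi
          by_cases hiZ : i ∈ Z
          · simp only [hZ, Finset.mem_union, Finset.notMem_empty, or_false] at hiZ
            rcases hiZ with h | h
            · exact ⟨Sum.inr true, by simpa using h⟩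
            · exact ⟨Sum.inr false, by simpa using h⟩
          · obtain ⟨j, hj⟩ := h4 i (Finset.mem_sdiff.2 ⟨hi, hiZ⟩)
            exact ⟨Sum.inl j, hj⟩
        · rintro (j | (_ | _)) i hi
          · exact h5 j i hi
          · simp only [Sum.elim_inr, Bool.false_eq_true, if_false] at hi
            obtain ⟨j, hj, rfl⟩ := Finset.mem_image.1 hi
            simpa [hπ] using hj
          · simp only [Sum.elim_inr, if_true] at hi
            simpa using Finset.mem_image_of_mem π hi


theorem exists_blocks {ι : Type} [Fintype ι] [DecidableEq ι] (π : Equiv.Perm ι)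
    (hπ : ∀ i, π (π i) = i) (a t : ℕ) (ha : 0 < a) (hcard : Fintype.card ι = a * t) :
    ∃ (β : ι → Fin t) (σ : Equiv.Perm (Fin t)),
      (∀ j, Fintype.card {i // β i = j} = a) ∧ ∀ i, β (π i) = σ (β i) := by
  classical
  obtain ⟨τ, _, Bk, σ, h1, _, h3, h4, h5⟩ := exists_blocks_aux π hπ a ha (a * t) Finset.univ
    (by rw [Finset.card_univ, hcard]) (fun _ _ => Finset.mem_univ _) (Dvd.intro t rfl)
  choose β₀ hβ₀ using fun i => h4 i (Finset.mem_univ i)
  have huniq : ∀ i j, i ∈ Bk j → β₀ i = j := by
    intro i j hij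
    by_contra hne
    exact (Finset.disjoint_left.1 (h3 _ _ hne)) (hβ₀ i) hij
  have hfib : ∀ j, Finset.univ.filter (fun i => β₀ i = j) = Bk j := by
    intro j
    ext i
    simp only [Finset.mem_filter, Finset.mem_univ, true_and]
    exact ⟨fun h => h ▸ hβ₀ i, huniq i j⟩
  have hτ : Fintype.card τ = t := by
    have h6 := Finset.card_eq_sum_card_fiberwise (f := β₀) (s := Finset.univ) (t := Finset.univ)
      (fun _ _ => Finset.mem_univ _)
    simp only [hfib, h1, Finset.sum_const, smul_eq_mul, Finset.card_univ, hcard] at h6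
    rw [mul_comm] at h6
    exact (Nat.eq_of_mul_eq_mul_right ha h6).symm
  let e : τ ≃ Fin t := Fintype.equivFinOfCardEq hτ
  refine ⟨fun i => e (β₀ i), e.permCongr σ, ?_, ?_⟩
  · intro j
    rw [Fintype.card_subtype]
    have : Finset.univ.filter (fun i => e (β₀ i) = j) = Bk (e.symm j) := by
      rw [← hfib]
      ext i
      simp [Equiv.eq_symm_apply]
    rw [this, h1]
  · intro i
    simp only [Equiv.permCongr_apply, Equiv.symm_apply_apply, EmbeddingLike.apply_eq_iff_eq]
    exact huniq _ _ (h5 _ _ (hβ₀ i))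

end Cfsg.Agent.Lib.Helper99
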