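import Mathlib

set_option autoImplicit false

namespace Cfsg.Agent.Lib.Helper99

open Module Submodule

variable {F V : Type*} [Field F] [AddCommGroup V] [Module F V]

theorem exists_monomial_aux [FiniteDimensional F V] {T : V →ₗ[F] V} {z : F} (hT : ∀ v, T (T v) = z • v) :
    ∀ (n : ℕ) (W : Submodule F V), finrank F W = n → (∀ v ∈ W, T v ∈ W) →
    ∃ (ι : Type) (_ : Fintype ι) (_ : DecidableEq ι) (b : ι → V) (π : Equiv.Perm ι) (c : ι → F),
      LinearIndependent F b ∧ span F (Set.range b) = W ∧ (∀ i, π (π i) = i) ∧
        ∀ i, T (b i) = c i • b (π i) := by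
  intro n
  induction n using Nat.strong_induction_on with
  | _ n ih =>
    intro W hn hTW
    by_cases hA : ∃ v ∈ W, ∀ c : F, T v ≠ c • v
    · obtain ⟨v, hv, hvc⟩ := hA
      have hnot : T v ∉ span F {v} := by
        intro h
        obtain ⟨c, hc⟩ := mem_span_singleton.1 h
        exact hvc c hc.symm
      obtain ⟨f, hfγ, hfker⟩ := Submodule.exists_le_ker_of_notMem hnot
      have hfv : f v = 0 := hfker (mem_span_singleton_self v)
      set γ := f (T v) with hγ
      set W' : Submodule F V := W ⊓ LinearMap.ker f ⊓ LinearMap.ker (f ∘ₗ T) with hW'
      have hmem : ∀ y, y ∈ W' ↔ y ∈ W ∧ f y = 0 ∧ f (T y) = 0 := by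
        intro y
        simp [hW', Submodule.mem_inf, LinearMap.mem_ker, and_assoc]
      have hW'le : W' ≤ W := fun y hy => ((hmem y).1 hy).1
      have hlt : finrank F W' < finrank F W := by
        apply Submodule.finrank_lt_finrank_of_lt
        refine lt_of_le_of_ne hW'le ?_
        intro h
        have : v ∈ W' := by rw [h]; exact hv
        exact hfγ ((hmem v).1 this).2.2
      rw [hn] at hlt
      obtain ⟨ι, _, _, b, π, c, h1, h2, h3, h4⟩ := ih _ hlt W' rfl (by
        intro y hy
        obtain ⟨a1, a2, a3⟩ := (hmem y).1 hy
        rw [hmem]
        exact ⟨hTW y a1, a3, by rw [hT, map_smul, a2, smul_zero]⟩)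
      have hpair : LinearIndependent F ![v, T v] := by
        rw [LinearIndependent.pair_iff]
        intro s t hst
        have e1 := congrArg f hst
        simp only [map_add, map_smul, hfv, smul_eq_mul, mul_zero, zero_add, map_zero] at e1
        have ht : t = 0 := (mul_eq_zero.1 e1).resolve_right hfγ
        have e2 := congrArg (fun y => f (T y)) hst
        simp only [map_add, map_smul, hT, hfv, smul_eq_mul, mul_zero, add_zero, map_zero] at e2
        exact ⟨(mul_eq_zero.1 e2).resolve_right hfγ, ht⟩
      have hrange : Set.range ![v, T v] = {v, T v} := by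
        ext y
        simp only [Set.mem_range, Set.mem_insert_iff, Set.mem_singleton_iff]
        constructor
        · rintro ⟨i, rfl⟩
          fin_cases i
          · left; rfl
          · right; rfl
        · rintro (rfl | rfl)
          · exact ⟨0, rfl⟩
          · exact ⟨1, rfl⟩
      refine ⟨ι ⊕ Fin 2, inferInstance, inferInstance, Sum.elim b ![v, T v],
        Equiv.sumCongr π (Equiv.swap 0 1), Sum.elim c ![1, z], ?_, ?_, ?_, ?_⟩
      · apply LinearIndependent.sum_type h1 hpair
        rw [h2, hrange, Submodule.disjoint_def]
        intro y hy hy'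
        obtain ⟨s, t, rfl⟩ := mem_span_pair.1 hy'
        obtain ⟨_, a2, a3⟩ := (hmem _).1 hy
        simp only [map_add, map_smul, hfv, smul_eq_mul, mul_zero, zero_add] at a2
        have ht : t = 0 := (mul_eq_zero.1 a2).resolve_right hfγ
        simp only [map_add, map_smul, hT, hfv, smul_eq_mul, mul_zero, add_zero] at a3
        have hs : s = 0 := (mul_eq_zero.1 a3).resolve_right hfγ
        simp [hs, ht]
      · rw [Set.Sum.elim_range, span_union, h2, hrange]
        apply le_antisymm
        · refine sup_le hW'le ?_
          rw [span_le]
          rintro y (rfl | rfl)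
          · exact hv
          · exact hTW _ hv
        · intro y hy
          have e : y = (y - (f (T y) / γ) • v - (f y / γ) • T v) + ((f (T y) / γ) • v + (f y / γ) • T v) := by
            abel
          rw [e]
          refine Submodule.add_mem_sup ?_ (mem_span_pair.2 ⟨_, _, rfl⟩)
          rw [hmem]
          refine ⟨W.sub_mem (W.sub_mem hy (W.smul_mem _ hv)) (W.smul_mem _ (hTW v hv)), ?_, ?_⟩
          · simp only [map_sub, map_smul, hfv, smul_eq_mul, ← hγ]
            field_simp
            ring
          · simp only [map_sub, map_smul, hT, hfv, smul_eq_mul, ← hγ]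
            field_simp
            ring
      · rintro (i | i)
        · simp [h3]
        · simp
      · rintro (i | i)
        · simpa using h4 i
        · fin_cases i
          · simp
          · simp [hT]
    · push Not at hA
      choose! c hc using hA
      refine ⟨Fin (finrank F W), inferInstance, inferInstance, fun i => (Module.finBasis F W i : V), 1,
        fun i => c (Module.finBasis F W i : V), ?_, ?_, fun _ => rfl, ?_⟩
      · exact (Module.finBasis F W).linearIndependent.map' W.subtype (Submodule.ker_subtype W)
      · have : Set.range (fun i => (Module.finBasis F W i : V)) = W.subtype '' Set.range (Module.finBasis F W) := by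
          rw [← Set.range_comp]; rfl
        rw [this, ← Submodule.map_span, (Module.finBasis F W).span_eq, Submodule.map_top, Submodule.range_subtype]
      · intro i
        exact hc _ (Module.finBasis F W i).2

end Cfsg.Agent.Lib.Helper99
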