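import Mathlib

set_option autoImplicit false

namespace Cfsg.Agent.Lib.Helper99

open Module Submodule

variable {F V : Type*} [Field F] [AddCommGroup V] [Module F V] {κ τ : Type*}

/-- The span of the vectors of the family `b` lying in block `j`. -/
def blockSpan (b : κ → V) (β : κ → τ) (j : τ) : Submodule F V :=
  span F (b '' (β ⁻¹' {j}))

lemma mem_blockSpan (b : κ → V) (β : κ → τ) (k : κ) : b k ∈ blockSpan (F := F) b β (β k) :=
  subset_span ⟨k, rfl, rfl⟩

lemma finrank_blockSpan [Fintype κ] [DecidableEq τ] {b : κ → V} (hli : LinearIndependent F b) (β : κ → τ) (j : τ) :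
    finrank F (blockSpan (F := F) b β j) = Fintype.card {k // β k = j} := by
  have h1 : LinearIndependent F (fun k : {k // β k = j} => b k) :=
    hli.comp Subtype.val Subtype.val_injective
  have h2 : Set.range (fun k : {k // β k = j} => b k) = b '' (β ⁻¹' {j}) := by
    ext v
    constructor
    · rintro ⟨⟨k, hk⟩, rfl⟩
      exact ⟨k, hk, rfl⟩
    · rintro ⟨k, hk, rfl⟩
      exact ⟨⟨k, hk⟩, rfl⟩
  rw [blockSpan, ← h2, finrank_span_eq_card h1]

lemma iSupIndep_blockSpan {b : κ → V} (hli : LinearIndependent F b) (β : κ → τ) :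
    iSupIndep (blockSpan (F := F) b β) := by
  intro j
  have h1 : (⨆ k, ⨆ (_ : k ≠ j), blockSpan (F := F) b β k) ≤ span F (b '' (β ⁻¹' {j})ᶜ) := by
    refine iSup_le fun k => iSup_le fun hk => ?_
    apply span_mono
    apply Set.image_mono
    intro i hi
    simp only [Set.mem_preimage, Set.mem_singleton_iff, Set.mem_compl_iff] at hi ⊢
    rw [hi]; exact hk
  refine Disjoint.mono_right h1 ?_
  exact hli.disjoint_span_image disjoint_compl_right

lemma iSup_blockSpan {b : κ → V} (hspan : span F (Set.range b) = ⊤) (β : κ → τ) :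
    iSup (blockSpan (F := F) b β) = ⊤ := by
  rw [eq_top_iff, ← hspan, span_le]
  rintro _ ⟨k, rfl⟩
  exact (le_iSup (blockSpan (F := F) b β) (β k)) (mem_blockSpan b β k)

lemma map_blockSpan [FiniteDimensional F V] [Fintype κ] [DecidableEq τ] {b : κ → V} (hli : LinearIndependent F b)
    (β : κ → τ) {a : ℕ} (hfib : ∀ j, Fintype.card {k // β k = j} = a) {T : V →ₗ[F] V}
    (hT : Function.Injective T) (σ : τ → τ) (h : ∀ k, T (b k) ∈ blockSpan (F := F) b β (σ (β k))) (j : τ) :
    (blockSpan (F := F) b β j).map T = blockSpan (F := F) b β (σ j) := by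
  apply Submodule.eq_of_le_of_finrank_eq
  · rw [blockSpan, Submodule.map_span, span_le]
    rintro _ ⟨_, ⟨k, hk, rfl⟩, rfl⟩
    have := h k
    rw [show β k = j from hk] at this
    exact this
  · rw [(Submodule.equivMapOfInjective T hT _).finrank_eq.symm, finrank_blockSpan hli,
      finrank_blockSpan hli, hfib, hfib]

end Cfsg.Agent.Lib.Helper99
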