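import Cfsg.Agent.Lib.Helper99.Planes
import Cfsg.Agent.Lib.Helper99.Grouping
import Cfsg.Agent.Lib.Helper99.Blocks

set_option autoImplicit false

namespace Cfsg.Agent.Lib.Helper99

open Module Submodule

variable {F V : Type*} [Field F] [AddCommGroup V] [Module F V]

lemma linearIndependent_of_dual {κ : Type*} (B : LinearMap.BilinForm F V) (b b' : κ → V)
    (h1 : ∀ k, B (b k) (b' k) ≠ 0) (h2 : ∀ k l, k ≠ l → B (b k) (b' l) = 0) :
    LinearIndependent F b := by
  classical
  rw [linearIndependent_iff']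
  intro s g hg l hl
  have h3 := congrArg (fun y => B y (b' l)) hg
  simp only [map_sum, map_smul, LinearMap.sum_apply, LinearMap.smul_apply, smul_eq_mul, map_zero,
    LinearMap.zero_apply] at h3
  rw [Finset.sum_eq_single l] at h3
  · exact (mul_eq_zero.1 h3).resolve_right (h1 l)
  · intro k _ hk
    rw [h2 k l hk, mul_zero]
  · intro h; exact absurd hl h

lemma blockSpan_orth {κ τ : Type*} (B : LinearMap.BilinForm F V) (b : κ → V) (β : κ → τ)
    (h : ∀ k l, β k ≠ β l → B (b k) (b l) = 0) (j j' : τ) (hj : j ≠ j') :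
    ∀ u ∈ blockSpan (F := F) b β j, ∀ v ∈ blockSpan (F := F) b β j', B u v = 0 := by
  have h1 : ∀ k, β k = j → ∀ v ∈ blockSpan (F := F) b β j', B (b k) v = 0 := by
    intro k hk v hv
    have : blockSpan (F := F) b β j' ≤ LinearMap.ker (B (b k)) := by
      rw [blockSpan, span_le]
      rintro _ ⟨l, hl, rfl⟩
      exact h k l (by rw [hk, show β l = j' from hl]; exact hj)
    exact this hv
  intro u hu v hv
  have : blockSpan (F := F) b β j ≤ LinearMap.ker (B.flip v) := by
    rw [blockSpan, span_le]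
    rintro _ ⟨k, hk, rfl⟩
    exact h1 k hk v hv
  exact this hu

/-- Orthogonal decomposition into blocks permuted by `T`. -/
theorem exists_orth_blocks [FiniteDimensional F V] {B : LinearMap.BilinForm F V} (hB : B.IsAlt)
    (hnd : NondegOn B ⊤) {T : V →ₗ[F] V} {z : F} (hz : z ≠ 0)
    (hIso : ∀ a b, B (T a) (T b) = B a b) (hT : ∀ v, T (T v) = z • v)
    (a' t : ℕ) (ha' : 0 < a') (hdim : finrank F V = 2 * a' * t) :
    ∃ D : Fin t → Submodule F V, (∀ j, finrank F (D j) = 2 * a') ∧ iSupIndep D ∧ iSup D = ⊤ ∧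
      (∀ j, ∀ u ∈ D j, u ≠ 0 → ∃ v ∈ D j, B u v ≠ 0) ∧
      (∀ j j', j ≠ j' → ∀ u ∈ D j, ∀ v ∈ D j', B u v = 0) ∧
      ∃ σ : Equiv.Perm (Fin t), ∀ j, (D j).map T = D (σ j) := by
  classical
  obtain ⟨ι, _, _, e, π, h1, h2, h3, h4, h5⟩ := hasPlanes hB hz hIso hT _ ⊤ rfl hnd (fun _ _ => trivial)
  set b : ι × Fin 2 → V := fun k => e k.1 k.2 with hb
  have hli : LinearIndependent F b := by
    apply linearIndependent_of_dual B b (fun k => e k.1 (k.2 + 1))
    · rintro ⟨i, s⟩
      fin_cases s
      · exact h1 i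
      · show B (e i 1) (e i 0) ≠ 0
        rw [skew_of_alt hB]; exact neg_ne_zero.2 (h1 i)
    · rintro ⟨i, s⟩ ⟨j, s'⟩ hne
      by_cases hij : i = j
      · subst hij
        have hs : s ≠ s' := fun h => hne (by rw [h])
        have : s' + 1 = s := by
          fin_cases s <;> fin_cases s' <;> simp_all
        show B (e i s) (e i (s' + 1)) = 0
        rw [this]; exact hB _
      · exact h2 i j hij _ _
  have hcard : Fintype.card ι = a' * t := by
    have h6 : Fintype.card (ι × Fin 2) = 2 * a' * t := by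
      rw [← finrank_span_eq_card hli, h3, finrank_top, hdim]
    rw [Fintype.card_prod, Fintype.card_fin] at h6
    nlinarith
  obtain ⟨β, σ, hfib, hσ⟩ := exists_blocks π h4 a' t ha' hcard
  set β' : ι × Fin 2 → Fin t := fun k => β k.1 with hβ'
  have hfib' : ∀ j, Fintype.card {k // β' k = j} = 2 * a' := by
    intro j
    have e1 : {k // β' k = j} ≃ {i // β i = j} × Fin 2 :=
      ⟨fun k => (⟨k.1.1, k.2⟩, k.1.2), fun p => ⟨(p.1.1, p.2), p.1.2⟩, fun _ => rfl, fun _ => rfl⟩
    rw [Fintype.card_congr e1, Fintype.card_prod, hfib, Fintype.card_fin, mul_comm]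
  have hinj : Function.Injective T := by
    rw [← LinearMap.ker_eq_bot, LinearMap.ker_eq_bot']
    intro v hv
    have := hT v
    rw [hv, map_zero] at this
    exact (smul_eq_zero.1 this.symm).resolve_left hz
  have horth := blockSpan_orth B b β' (by
    rintro ⟨i, s⟩ ⟨j, s'⟩ hne
    exact h2 i j (fun h => hne (by simp [hβ', h])) s s')
  have hsup := iSup_blockSpan (F := F) h3 β'
  refine ⟨blockSpan b β', ?_, iSupIndep_blockSpan hli β', hsup, ?_, horth, σ, ?_⟩
  · intro j
    rw [finrank_blockSpan hli, hfib']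
  · intro j u hu hu0
    by_contra hcon
    push Not at hcon
    obtain ⟨y, _, hy⟩ := hnd u trivial hu0
    apply hy
    have : iSup (blockSpan (F := F) b β') ≤ LinearMap.ker (B u) := by
      refine iSup_le fun j' => ?_
      by_cases hjj : j = j'
      · subst hjj
        exact fun v hv => hcon v hv
      · exact fun v hv => horth j j' hjj u hu v hv
    rw [hsup] at this
    exact this trivial
  · apply map_blockSpan hli β' hfib' hinj σ
    rintro ⟨i, s⟩
    have h7 : span F (Set.range (e (π i))) ≤ blockSpan (F := F) b β' (σ (β' (i, s))) := by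
      rw [span_le]
      rintro _ ⟨s', rfl⟩
      have := mem_blockSpan (F := F) b β' (π i, s')
      simp only [hβ', hσ] at this ⊢
      exact this
    exact h7 (h5 i s)

end Cfsg.Agent.Lib.Helper99
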