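import Cfsg.Agent.Lib.Helper99.EvenBlocks
import Cfsg.Agent.Lib.Helper99.Monomial
import Cfsg.Agent.Lib.Helper99.PlanesBlocks

set_option autoImplicit false

namespace Cfsg.Agent.Lib.Helper99

open Module Submodule

variable {F V : Type*} [Field F] [AddCommGroup V] [Module F V]

/-- `V` is a direct sum of `T`-invariant planes on each of which `T` has determinant `μ`. -/
def HasDetPlanes (T : V →ₗ[F] V) (μ : F) : Prop :=
  ∃ (ι : Type) (_ : Fintype ι) (_ : DecidableEq ι) (b : Basis (ι × Fin 2) F V)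
    (A : ι → Matrix (Fin 2) (Fin 2) F),
    (∀ i s, T (b (i, s)) = ∑ r, A i r s • b (i, r)) ∧ ∀ i, (A i).det = μ

theorem hasDetPlanes_of_monomial [FiniteDimensional F V] {T : V →ₗ[F] V} {z : F}
    (hT : ∀ v, T (T v) = z • v)
    (hyp : ∀ c₁ c₂ : F, c₁ ^ 2 = z → c₂ ^ 2 = z → c₁ * c₂ = -z) (hev : Even (finrank F V)) :
    HasDetPlanes T (-z) := by
  classical
  obtain ⟨ι, _, _, b, π, c, hli, hsp, hπ, hTb⟩ := exists_monomial_aux hT _ ⊤ rfl (fun _ _ => trivial)
  obtain ⟨t, ht⟩ := hev
  have hcard : Fintype.card ι = 2 * t := by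
    rw [← finrank_span_eq_card hli, hsp, finrank_top, ht, two_mul]
  obtain ⟨β, hfib, hβ⟩ := exists_invariant_blocks π hπ 2 t (by norm_num) (by norm_num) hcard
  obtain ⟨e, he⟩ := exists_equiv_prod_of_fibres β hfib
  have hcc : ∀ i, c i * c (π i) = z := by
    intro i
    have h1 := hT (b i)
    rw [hTb, map_smul, hTb, hπ, smul_smul] at h1
    have h2 : (c i * c (π i) - z) • b i = 0 := by rw [sub_smul, h1, sub_self]
    exact sub_eq_zero.1 ((smul_eq_zero.1 h2).resolve_right (hli.ne_zero i))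
  have hex : ∀ j s, ∃ r, π (e (j, s)) = e (j, r) := by
    intro j s
    obtain ⟨⟨j', r⟩, hjr⟩ := e.surjective (π (e (j, s)))
    have h1 : β (π (e (j, s))) = j := by rw [hβ, he]
    rw [← hjr, he] at h1
    exact ⟨r, by rw [← hjr, h1]⟩
  let bb : Basis (Fin t × Fin 2) F V := (Basis.mk hli (by rw [hsp])).reindex e.symm
  have hbb : ∀ k, bb k = b (e k) := by
    intro k
    simp [bb]
  let A : Fin t → Matrix (Fin 2) (Fin 2) F :=
    fun j => Matrix.of (fun r s => if π (e (j, s)) = e (j, r) then c (e (j, s)) else 0)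
  have hA : ∀ j r s, A j r s = if π (e (j, s)) = e (j, r) then c (e (j, s)) else 0 := fun _ _ _ => rfl
  refine ⟨Fin t, inferInstance, inferInstance, bb, A, ?_, ?_⟩
  · intro j s
    obtain ⟨r, hr⟩ := hex j s
    rw [hbb, hTb, Finset.sum_eq_single r]
    · rw [hA, if_pos hr, hbb, hr]
    · intro r' _ hne
      rw [hA, if_neg, zero_smul]
      rw [hr]
      intro h
      exact hne (by simpa using (e.injective h).symm)
    · intro h; exact absurd (Finset.mem_univ r) h
  · intro j
    rw [Matrix.det_fin_two]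
    have hne01 : e (j, 0) ≠ e (j, 1) := by
      intro h
      simpa using e.injective h
    obtain ⟨r, hr⟩ := hex j 0
    have hr' : r = 0 ∨ r = 1 := by fin_cases r <;> simp
    rcases hr' with rfl | rfl
    · -- both fixed
      have hr1 : π (e (j, 1)) = e (j, 1) := by
        obtain ⟨r', hr'⟩ := hex j 1
        have hr'' : r' = 0 ∨ r' = 1 := by fin_cases r' <;> simp
        rcases hr'' with rfl | rfl
        · exact absurd (π.injective (hr.trans hr'.symm)) hne01
        · exact hr'
      simp only [hA, hr, hr1, if_true, if_neg hne01, if_neg hne01.symm]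
      have h0 := hcc (e (j, 0))
      have h1 := hcc (e (j, 1))
      rw [hr] at h0
      rw [hr1] at h1
      rw [hyp _ _ (by rw [pow_two]; exact h0) (by rw [pow_two]; exact h1)]
      ring
    · have hr1 : π (e (j, 1)) = e (j, 0) := by rw [← hr, hπ]
      simp only [hA, hr, hr1, if_true, if_neg hne01, if_neg hne01.symm]
      have h0 := hcc (e (j, 0))
      rw [hr] at h0
      rw [← h0]
      ring

theorem exists_eigenbasis [FiniteDimensional F V] (h2 : (2 : F) ≠ 0) {T : V →ₗ[F] V} {l : F}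
    (hl : l ≠ 0) (hT : ∀ v, T (T v) = (l ^ 2) • v) :
    ∃ (α β : ℕ) (b : Basis (Fin α ⊕ Fin β) F V), (∀ i, T (b (Sum.inl i)) = l • b (Sum.inl i)) ∧
      (∀ j, T (b (Sum.inr j)) = (-l) • b (Sum.inr j)) := by
  set E₁ : Submodule F V := LinearMap.ker (T - l • LinearMap.id) with hE₁
  set E₂ : Submodule F V := LinearMap.ker (T + l • LinearMap.id) with hE₂
  have hm₁ : ∀ v, v ∈ E₁ ↔ T v = l • v := by
    intro v
    simp [hE₁, LinearMap.mem_ker, sub_eq_zero]
  have hm₂ : ∀ v, v ∈ E₂ ↔ T v = (-l) • v := by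
    intro v
    simp [hE₂, LinearMap.mem_ker, add_eq_zero_iff_eq_neg]
  have hc : IsCompl E₁ E₂ := by
    constructor
    · rw [Submodule.disjoint_def]
      intro v h1 h2'
      rw [hm₁] at h1
      rw [hm₂] at h2'
      have h3 : (2 * l) • v = 0 := by
        have : l • v = (-l) • v := h1.symm.trans h2'
        rw [two_mul, add_smul]
        nth_rewrite 1 [this]
        rw [neg_smul, neg_add_cancel]
      exact (smul_eq_zero.1 h3).resolve_left (mul_ne_zero h2 hl)
    · rw [codisjoint_iff, eq_top_iff]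
      intro v _
      have h1 : T v + l • v ∈ E₁ := by
        rw [hm₁, map_add, map_smul, hT, smul_add, smul_smul, pow_two, add_comm]
      have h2' : T v - l • v ∈ E₂ := by
        rw [hm₂, map_sub, map_smul, hT]
        module
      have h3 : v = (2 * l)⁻¹ • (T v + l • v) + (-(2 * l)⁻¹) • (T v - l • v) := by
        have : (2 * l)⁻¹ • (T v + l • v) + (-(2 * l)⁻¹) • (T v - l • v) = ((2 * l)⁻¹ * (2 * l)) • v := by
          module
        rw [this, inv_mul_cancel₀ (mul_ne_zero h2 hl), one_smul]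
      rw [h3]
      exact Submodule.add_mem_sup (E₁.smul_mem _ h1) (E₂.smul_mem _ h2')
  refine ⟨finrank F E₁, finrank F E₂,
    ((finBasis F E₁).prod (finBasis F E₂)).map (Submodule.prodEquivOfIsCompl E₁ E₂ hc), ?_, ?_⟩
  · intro i
    have : (((finBasis F E₁).prod (finBasis F E₂)).map (Submodule.prodEquivOfIsCompl E₁ E₂ hc)) (Sum.inl i)
        = (finBasis F E₁ i : V) := by
      simp
    rw [this]
    exact (hm₁ _).1 (finBasis F E₁ i).2
  · intro i
    have : (((finBasis F E₁).prod (finBasis F E₂)).map (Submodule.prodEquivOfIsCompl E₁ E₂ hc)) (Sum.inr i)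
        = (finBasis F E₂ i : V) := by
      simp
    rw [this]
    exact (hm₂ _).1 (finBasis F E₂ i).2

theorem det_of_eigenbasis {T : V →ₗ[F] V} {l : F} {α β : ℕ} (b : Basis (Fin α ⊕ Fin β) F V)
    (h1 : ∀ i, T (b (Sum.inl i)) = l • b (Sum.inl i))
    (h2 : ∀ j, T (b (Sum.inr j)) = (-l) • b (Sum.inr j)) :
    LinearMap.det T = l ^ α * (-l) ^ β := by
  classical
  rw [← LinearMap.det_toMatrix b]
  have : LinearMap.toMatrix b b T = Matrix.diagonal (Sum.elim (fun _ => l) (fun _ => -l)) := by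
    ext i j
    rw [LinearMap.toMatrix_apply]
    rcases j with j | j
    · rw [h1, map_smul, Basis.repr_self, Matrix.diagonal_apply]
      by_cases hij : i = Sum.inl j
      · subst hij; simp
      · rw [if_neg hij]
        simp [Ne.symm hij]
    · rw [h2, map_smul, Basis.repr_self, Matrix.diagonal_apply]
      by_cases hij : i = Sum.inr j
      · subst hij; simp
      · rw [if_neg hij]
        simp [Ne.symm hij]
  rw [this, Matrix.det_diagonal, Fintype.prod_sum_type]
  simp

theorem hasDetPlanes_of_eigen {T : V →ₗ[F] V} {l : F} {α β : ℕ} (b : Basis (Fin α ⊕ Fin β) F V)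
    (h1 : ∀ i, T (b (Sum.inl i)) = l • b (Sum.inl i))
    (h2 : ∀ j, T (b (Sum.inr j)) = (-l) • b (Sum.inr j)) (hα : Even α) (hβ : Even β) :
    HasDetPlanes T (l ^ 2) := by
  classical
  obtain ⟨a, rfl⟩ := hα
  obtain ⟨a', rfl⟩ := hβ
  let e₁ : Fin a × Fin 2 ≃ Fin (a + a) := finProdFinEquiv.trans (finCongr (by omega))
  let e₂ : Fin a' × Fin 2 ≃ Fin (a' + a') := finProdFinEquiv.trans (finCongr (by omega))
  let e : (Fin a ⊕ Fin a') × Fin 2 ≃ Fin (a + a) ⊕ Fin (a' + a') :=
    (Equiv.sumProdDistrib _ _ _).trans (Equiv.sumCongr e₁ e₂)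
  refine ⟨Fin a ⊕ Fin a', inferInstance, inferInstance, b.reindex e.symm,
    Sum.elim (fun _ => l • 1) (fun _ => (-l) • 1), ?_, ?_⟩
  · rintro (i | i) s
    · have : ∀ r, (b.reindex e.symm) (Sum.inl i, r) = b (Sum.inl (e₁ (i, r))) := by
        intro r
        simp [e]
      simp only [this, h1, Sum.elim_inl, Matrix.smul_apply, Matrix.one_apply, smul_eq_mul]
      rw [Finset.sum_eq_single s]
      · simp
      · intro r _ hr
        simp [hr]
      · intro h; exact absurd (Finset.mem_univ s) h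
    · have : ∀ r, (b.reindex e.symm) (Sum.inr i, r) = b (Sum.inr (e₂ (i, r))) := by
        intro r
        simp [e]
      simp only [this, h2, Sum.elim_inr, Matrix.smul_apply, Matrix.one_apply, smul_eq_mul]
      rw [Finset.sum_eq_single s]
      · simp
      · intro r _ hr
        simp [hr]
      · intro h; exact absurd (Finset.mem_univ s) h
  · rintro (i | i)
    · simp [pow_two]
    · simp [Matrix.det_fin_two, pow_two]

theorem similitude_of_planes {ι : Type*} {B : LinearMap.BilinForm F V} (hB : B.IsAlt)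
    (ee : Basis (ι × Fin 2) F V) (horth : ∀ i j, i ≠ j → ∀ s t, B (ee (i, s)) (ee (j, t)) = 0)
    {T : V →ₗ[F] V} {A : ι → Matrix (Fin 2) (Fin 2) F} {μ : F}
    (hT : ∀ i s, T (ee (i, s)) = ∑ r, A i r s • ee (i, r)) (hdet : ∀ i, (A i).det = μ) :
    ∀ u v, B (T u) (T v) = μ * B u v := by
  have h : B.comp T T = μ • B := by
    apply LinearMap.BilinForm.ext_basis ee
    rintro ⟨i, s⟩ ⟨j, t⟩
    simp only [LinearMap.BilinForm.comp_apply, LinearMap.smul_apply, smul_eq_mul, hT,
      Fin.sum_univ_two, map_add, map_smul, LinearMap.add_apply, LinearMap.smul_apply]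
    by_cases hij : i = j
    · subst hij
      have h00 : B (ee (i, 0)) (ee (i, 0)) = 0 := hB _
      have h11 : B (ee (i, 1)) (ee (i, 1)) = 0 := hB _
      have h10 : B (ee (i, 1)) (ee (i, 0)) = - B (ee (i, 0)) (ee (i, 1)) := skew_of_alt hB _ _
      have hd := hdet i
      rw [Matrix.det_fin_two] at hd
      rw [h00, h11, h10, ← hd]
      have hs : s = 0 ∨ s = 1 := by fin_cases s <;> simp
      have ht : t = 0 ∨ t = 1 := by fin_cases t <;> simp
      rcases hs with rfl | rfl <;> rcases ht with rfl | rfl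
      · rw [h00]; ring
      · ring
      · rw [h10]; ring
      · rw [h11]; ring
    · simp [horth i j hij]
  intro u v
  have := congrArg (fun C : LinearMap.BilinForm F V => C u v) h
  simpa using this

theorem exists_hyperbolic_basis [FiniteDimensional F V] {B : LinearMap.BilinForm F V} (hB : B.IsAlt)
    (hnd : NondegOn B ⊤) :
    ∃ (ι : Type) (_ : Fintype ι) (_ : DecidableEq ι) (ee : Basis (ι × Fin 2) F V),
      (∀ i, B (ee (i, 0)) (ee (i, 1)) ≠ 0) ∧ ∀ i j, i ≠ j → ∀ s t, B (ee (i, s)) (ee (j, t)) = 0 := by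
  classical
  obtain ⟨ι, _, _, e, π, h1, h2, h3, h4, h5⟩ := hasPlanes (T := LinearMap.id) (z := 1) hB one_ne_zero
    (fun _ _ => rfl) (fun v => by simp) _ ⊤ rfl hnd (fun _ _ => trivial)
  set b : ι × Fin 2 → V := fun k => e k.1 k.2 with hb
  have hli : LinearIndependent F b := by
    apply linearIndependent_of_dual B b (fun k => e k.1 (k.2 + 1))
    · rintro ⟨i, s⟩
      fin_cases s
      · exact h1 i
      · show B (e i 1) (e i 0) ≠ 0
        rw [skew_of_alt hB]; exact neg_ne_zero.2 (h1 i)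
    · rintro ⟨i, s⟩ ⟨j, s'⟩ hne
      by_cases hij : i = j
      · subst hij
        have hs : s ≠ s' := fun h => hne (by rw [h])
        have : s' + 1 = s := by
          fin_cases s <;> fin_cases s' <;> simp_all
        show B (e i s) (e i (s' + 1)) = 0
        rw [this]; exact hB _
      · exact h2 i j hij _ _
  refine ⟨ι, inferInstance, inferInstance, Basis.mk hli (by rw [h3]), ?_, ?_⟩
  · intro i
    simpa [hb] using h1 i
  · intro i j hij s t
    simpa [hb] using h2 i j hij s t

/-- Rescale one vector of a basis so that the change of basis has determinant one. -/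
theorem exists_unitsSMul_det_eq_one {κ : Type*} [Fintype κ] [DecidableEq κ] [Nonempty κ]
    (ee bb : Basis κ F V) :
    ∃ w : κ → Fˣ, LinearMap.det (((ee.unitsSMul w).equiv bb (Equiv.refl κ) : V ≃ₗ[F] V) : V →ₗ[F] V) = 1 := by
  obtain ⟨k₀⟩ := ‹Nonempty κ›
  have hu : IsUnit (ee.det bb) := ee.isUnit_det bb
  refine ⟨Function.update 1 k₀ hu.unit, ?_⟩
  have h1 := Basis.det_comp_basis bb (ee.unitsSMul (Function.update 1 k₀ hu.unit)) (LinearMap.id)
  simp only [LinearMap.id_comp] at h1
  rw [← h1, Basis.det_unitsSMul]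
  simp [Finset.prod_update_of_mem]
  exact inv_mul_cancel₀ hu.ne_zero

theorem exists_conj_similitude [FiniteDimensional F V] [Nontrivial V] {B : LinearMap.BilinForm F V}
    (hB : B.IsAlt) (hnd : NondegOn B ⊤) {T : V →ₗ[F] V} {μ : F} (h : HasDetPlanes T μ) :
    ∃ P : V ≃ₗ[F] V, LinearMap.det (P : V →ₗ[F] V) = 1 ∧
      ∀ u v, B (P.symm (T (P u))) (P.symm (T (P v))) = μ * B u v := by
  classical
  obtain ⟨ι, _, _, bb, A, hA, hdet⟩ := h
  obtain ⟨κ, _, _, ee, h1, h2⟩ := exists_hyperbolic_basis hB hnd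
  have hcard : Fintype.card κ = Fintype.card ι := by
    have h3 := finrank_eq_card_basis bb
    have h4 := finrank_eq_card_basis ee
    rw [Fintype.card_prod, Fintype.card_fin] at h3 h4
    omega
  let σ : κ ≃ ι := Fintype.equivOfCardEq hcard
  let ee₁ : Basis (ι × Fin 2) F V := ee.reindex (σ.prodCongr (Equiv.refl _))
  have hee₁ : ∀ i s, ee₁ (i, s) = ee (σ.symm i, s) := by
    intro i s
    simp [ee₁]
  have : Nonempty (ι × Fin 2) := bb.index_nonempty
  obtain ⟨w, hw⟩ := exists_unitsSMul_det_eq_one ee₁ bb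
  set ee₂ := ee₁.unitsSMul w with hee₂
  set P : V ≃ₗ[F] V := ee₂.equiv bb (Equiv.refl _) with hP
  refine ⟨P, hw, ?_⟩
  have hPe : ∀ k, P (ee₂ k) = bb k := by
    intro k
    simp [hP]
  have hPs : ∀ k, P.symm (bb k) = ee₂ k := by
    intro k
    rw [← hPe, LinearEquiv.symm_apply_apply]
  have := similitude_of_planes (T := (P.symm : V →ₗ[F] V) ∘ₗ T ∘ₗ (P : V →ₗ[F] V)) hB ee₂ (A := A) (μ := μ)
    ?_ ?_ hdet
  · exact this
  · intro i j hij s t
    simp only [hee₂, Basis.unitsSMul_apply, hee₁, Units.smul_def, map_smul, LinearMap.smul_apply]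
    rw [h2 _ _ (fun h => hij (σ.symm.injective h))]
    simp
  · intro i s
    simp only [LinearMap.comp_apply, LinearEquiv.coe_coe, hPe, hA, map_sum, map_smul, hPs]

end Cfsg.Agent.Lib.Helper99
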