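import Cfsg.Agent.Lib.Helper99.Blocks

set_option autoImplicit false

namespace Cfsg.Agent.Lib.Helper99

open Finset

theorem exists_invariant_blocks_aux {ι : Type} [Fintype ι] [DecidableEq ι] (π : Equiv.Perm ι)
    (hπ : ∀ i, π (π i) = i) (a : ℕ) (ha : 0 < a) (hev : Even a) :
    ∀ (N : ℕ) (Y : Finset ι), Y.card = N → (∀ i ∈ Y, π i ∈ Y) → a ∣ N →
    ∃ (τ : Type) (_ : Fintype τ) (Bk : τ → Finset ι),
      (∀ j, (Bk j).card = a) ∧ (∀ j, Bk j ⊆ Y) ∧ (∀ j k, j ≠ k → Disjoint (Bk j) (Bk k)) ∧
      (∀ i ∈ Y, ∃ j, i ∈ Bk j) ∧ (∀ j, ∀ i ∈ Bk j, π i ∈ Bk j) := by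
  intro N
  induction N using Nat.strong_induction_on with
  | _ N ih =>
    intro Y hN hY hdvd
    rcases Nat.eq_zero_or_pos N with h0 | hpos
    · subst h0
      have hYe : Y = ∅ := Finset.card_eq_zero.1 hN
      refine ⟨Empty, inferInstance, fun e => e.elim, fun e => e.elim, fun e => e.elim,
        fun e => e.elim, ?_, fun e => e.elim⟩
      intro i hi
      rw [hYe] at hi
      simp at hi
    · have hle : a ≤ N := Nat.le_of_dvd hpos hdvd
      set k : ι → ℕ := fun i => (Fintype.equivFin ι i : ℕ) with hkdef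
      have hk : Function.Injective k := by
        intro i j hij
        exact (Fintype.equivFin ι).injective (Fin.ext hij)
      have hcard : N = 2 * (repSet π k Y).card + (fixSet π Y).card := by
        rw [← card_rep_union hπ (le_refl _) (le_refl _), rep_union_eq hπ hk hY, hN]
      have hsdiff : ∀ Z : Finset ι, Z ⊆ Y → (∀ i ∈ Z, π i ∈ Z) → ∀ i ∈ Y \ Z, π i ∈ Y \ Z := by
        intro Z _ hZ i hi
        rw [Finset.mem_sdiff] at hi ⊢
        refine ⟨hY i hi.1, fun h => hi.2 ?_⟩
        have := hZ _ h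
        rwa [hπ] at this
      set s := min (repSet π k Y).card (a / 2) with hs
      have hs1 : s ≤ (repSet π k Y).card := min_le_left _ _
      have hs2 : s ≤ a / 2 := min_le_right _ _
      have hf : a - 2 * s ≤ (fixSet π Y).card := by
        obtain ⟨c, hc⟩ := hev
        rcases le_total (repSet π k Y).card (a / 2) with h | h
        · have : s = (repSet π k Y).card := min_eq_left h
          omega
        · have : s = a / 2 := min_eq_right h
          omega
      obtain ⟨R₀, hR₀, hR₀c⟩ := Finset.exists_subset_card_eq hs1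
      obtain ⟨F₀, hF₀, hF₀c⟩ := Finset.exists_subset_card_eq hf
      set Z := R₀ ∪ R₀.image π ∪ F₀ with hZ
      have hZc : Z.card = a := by
        rw [hZ, card_rep_union hπ hR₀ hF₀, hR₀c, hF₀c]; omega
      have hZY : Z ⊆ Y := rep_union_subset hY hR₀ hF₀
      have hZinv : ∀ i ∈ Z, π i ∈ Z := rep_union_invariant hπ hF₀
      have hc' : (Y \ Z).card = N - a := by
        rw [Finset.card_sdiff_of_subset hZY, hN, hZc]
      obtain ⟨τ, _, Bk, h1, h2, h3, h4, h5⟩ := ih (N - a) (by omega) (Y \ Z) hc'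
        (hsdiff Z hZY hZinv) ((Nat.dvd_sub_iff_left hle (dvd_refl a)).2 hdvd)
      refine ⟨Option τ, inferInstance, fun o => o.elim Z Bk, ?_, ?_, ?_, ?_, ?_⟩
      · rintro (_ | j)
        · exact hZc
        · exact h1 j
      · rintro (_ | j)
        · exact hZY
        · exact (h2 j).trans Finset.sdiff_subset
      · rintro (_ | j) (_ | j') hne
        · exact absurd rfl hne
        · exact (Finset.disjoint_of_subset_right (h2 j') Finset.disjoint_sdiff)
        · exact (Finset.disjoint_of_subset_left (h2 j) Finset.sdiff_disjoint)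
        · exact h3 j j' (fun h => hne (by rw [h]))
      · intro i hi
        by_cases hiZ : i ∈ Z
        · exact ⟨none, hiZ⟩
        · obtain ⟨j, hj⟩ := h4 i (Finset.mem_sdiff.2 ⟨hi, hiZ⟩)
          exact ⟨some j, hj⟩
      · rintro (_ | j) i hi
        · exact hZinv i hi
        · exact h5 j i hi

theorem exists_invariant_blocks {ι : Type} [Fintype ι] [DecidableEq ι] (π : Equiv.Perm ι)
    (hπ : ∀ i, π (π i) = i) (a t : ℕ) (ha : 0 < a) (hev : Even a) (hcard : Fintype.card ι = a * t) :
    ∃ (β : ι → Fin t), (∀ j, Fintype.card {i // β i = j} = a) ∧ ∀ i, β (π i) = β i := by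
  classical
  obtain ⟨τ, _, Bk, h1, _, h3, h4, h5⟩ := exists_invariant_blocks_aux π hπ a ha hev (a * t) Finset.univ
    (by rw [Finset.card_univ, hcard]) (fun _ _ => Finset.mem_univ _) (Dvd.intro t rfl)
  choose β₀ hβ₀ using fun i => h4 i (Finset.mem_univ i)
  have huniq : ∀ i j, i ∈ Bk j → β₀ i = j := by
    intro i j hij
    by_contra hne
    exact (Finset.disjoint_left.1 (h3 _ _ hne)) (hβ₀ i) hij
  have hfib : ∀ j, Finset.univ.filter (fun i => β₀ i = j) = Bk j := by
    intro j
    ext i
    simp only [Finset.mem_filter, Finset.mem_univ, true_and]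
    exact ⟨fun h => h ▸ hβ₀ i, huniq i j⟩
  have hτ : Fintype.card τ = t := by
    have h6 := Finset.card_eq_sum_card_fiberwise (f := β₀) (s := Finset.univ) (t := Finset.univ)
      (fun _ _ => Finset.mem_univ _)
    simp only [hfib, h1, Finset.sum_const, smul_eq_mul, Finset.card_univ, hcard] at h6
    rw [mul_comm] at h6
    exact (Nat.eq_of_mul_eq_mul_right ha h6).symm
  let e : τ ≃ Fin t := Fintype.equivFinOfCardEq hτ
  refine ⟨fun i => e (β₀ i), ?_, ?_⟩
  · intro j
    rw [Fintype.card_subtype]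
    have : Finset.univ.filter (fun i => e (β₀ i) = j) = Bk (e.symm j) := by
      rw [← hfib]
      ext i
      simp [Equiv.eq_symm_apply]
    rw [this, h1]
  · intro i
    simp only [EmbeddingLike.apply_eq_iff_eq]
    exact huniq _ _ (h5 _ _ (hβ₀ i))

/-- A map with all fibres of size `a` gives a product decomposition of the index type. -/
theorem exists_equiv_prod_of_fibres {ι : Type} [Fintype ι] [DecidableEq ι] {t a : ℕ} (β : ι → Fin t)
    (hfib : ∀ j, Fintype.card {i // β i = j} = a) :
    ∃ e : Fin t × Fin a ≃ ι, ∀ j s, β (e (j, s)) = j := by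
  classical
  let e1 : ∀ j, Fin a ≃ {i // β i = j} := fun j => (Fintype.equivFinOfCardEq (hfib j)).symm
  let e2 : (Σ _ : Fin t, Fin a) ≃ (Σ j, {i // β i = j}) := Equiv.sigmaCongrRight e1
  refine ⟨(Equiv.sigmaEquivProd (Fin t) (Fin a)).symm.trans (e2.trans (Equiv.sigmaFiberEquiv β)), ?_⟩
  intro j s
  exact (e1 j s).2

end Cfsg.Agent.Lib.Helper99
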