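import Cfsg.Agent.Lib.Helper99.Symp

set_option autoImplicit false

namespace Cfsg.Agent.Lib.Helper99

open Module Submodule

variable {F V : Type*} [Field F] [AddCommGroup V] [Module F V]

/-- `W` is an orthogonal sum of hyperbolic planes permuted by `T`. -/
def HasPlanes (B : LinearMap.BilinForm F V) (T : V →ₗ[F] V) (W : Submodule F V) : Prop :=
  ∃ (ι : Type) (_ : Fintype ι) (_ : DecidableEq ι) (e : ι → Fin 2 → V) (π : Equiv.Perm ι),
    (∀ i, B (e i 0) (e i 1) ≠ 0) ∧ (∀ i j, i ≠ j → ∀ s t, B (e i s) (e j t) = 0) ∧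
    span F (Set.range (fun k : ι × Fin 2 => e k.1 k.2)) = W ∧ (∀ i, π (π i) = i) ∧
    (∀ i s, T (e i s) ∈ span F (Set.range (e (π i))))

omit [AddCommGroup V] in
lemma range_pair (u w : V) : Set.range ![u, w] = {u, w} := by
  ext y
  simp only [Set.mem_range, Set.mem_insert_iff, Set.mem_singleton_iff]
  constructor
  · rintro ⟨i, rfl⟩
    fin_cases i
    · left; rfl
    · right; rfl
  · rintro (rfl | rfl)
    · exact ⟨0, rfl⟩
    · exact ⟨1, rfl⟩

lemma hasPlanes_stepI {B : LinearMap.BilinForm F V} (hB : B.IsAlt) {T : V →ₗ[F] V} {W : Submodule F V}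
    {u w : V} (hu : u ∈ W) (hw : w ∈ W) (huw : B u w ≠ 0)
    (hTu : T u ∈ span F (Set.range ![u, w])) (hTw : T w ∈ span F (Set.range ![u, w]))
    (h : HasPlanes B T (perpPair B W u w)) : HasPlanes B T W := by
  obtain ⟨ι, _, _, e, π, h1, h2, h3, h4, h5⟩ := h
  have hmem : ∀ i s, e i s ∈ perpPair B W u w := by
    intro i s
    rw [← h3]
    exact subset_span ⟨(i, s), rfl⟩
  have hperp : ∀ i s t, B (![u, w] t) (e i s) = 0 := by
    intro i s t
    obtain ⟨_, a, b⟩ := (mem_perpPair B W u w _).1 (hmem i s)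
    fin_cases t
    · exact a
    · exact b
  refine ⟨ι ⊕ Unit, inferInstance, inferInstance, Sum.elim e (fun _ => ![u, w]),
    Equiv.sumCongr π (Equiv.refl Unit), ?_, ?_, ?_, ?_, ?_⟩
  · rintro (i | i)
    · exact h1 i
    · exact huw
  · rintro (i | i) (j | j) hij s t
    · exact h2 i j (fun h => hij (by rw [h])) s t
    · rw [skew_of_alt hB]
      simp only [Sum.elim_inl, Sum.elim_inr]
      rw [hperp, neg_zero]
    · exact hperp j t s
    · exact absurd rfl hij
  · apply le_antisymm
    · rw [span_le]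
      rintro _ ⟨⟨(i | i), s⟩, rfl⟩
      · exact perpPair_le B W u w (hmem i s)
      · fin_cases s
        · exact hu
        · exact hw
    · intro y hy
      obtain ⟨y₁, hy₁, α, γ, rfl⟩ := perpPair_decomp hB hu hw huw hy
      refine add_mem (add_mem ?_ (smul_mem _ _ ?_)) (smul_mem _ _ ?_)
      · rw [← h3] at hy₁
        refine (span_le.2 ?_) hy₁
        rintro _ ⟨⟨i, s⟩, rfl⟩
        exact subset_span ⟨(Sum.inl i, s), rfl⟩
      · exact subset_span ⟨(Sum.inr (), 0), rfl⟩
      · exact subset_span ⟨(Sum.inr (), 1), rfl⟩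
  · rintro (i | i)
    · simp [h4]
    · simp
  · rintro (i | i) s
    · exact h5 i s
    · fin_cases s
      · exact hTu
      · exact hTw

lemma hasPlanes_stepII {B : LinearMap.BilinForm F V} (hB : B.IsAlt) {T : V →ₗ[F] V} {z : F}
    (hIso : ∀ a b, B (T a) (T b) = B a b) (hT : ∀ v, T (T v) = z • v) {W : Submodule F V}
    (hTW : ∀ v ∈ W, T v ∈ W)
    {u w : V} (hu : u ∈ W) (hw : w ∈ W) (huw : B u w ≠ 0)
    (r1 : B u (T u) = 0) (r2 : B u (T w) = 0) (r3 : B w (T u) = 0) (r4 : B w (T w) = 0)
    (h : HasPlanes B T (perpPair B (perpPair B W u w) (T u) (T w))) : HasPlanes B T W := by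
  obtain ⟨ι, _, _, e, π, h1, h2, h3, h4, h5⟩ := h
  have hTu : T u ∈ perpPair B W u w := (mem_perpPair B W u w _).2 ⟨hTW u hu, r1, r3⟩
  have hTw : T w ∈ perpPair B W u w := (mem_perpPair B W u w _).2 ⟨hTW w hw, r2, r4⟩
  have hTuw : B (T u) (T w) ≠ 0 := by rw [hIso]; exact huw
  have hmem : ∀ i s, e i s ∈ perpPair B (perpPair B W u w) (T u) (T w) := by
    intro i s
    rw [← h3]
    exact subset_span ⟨(i, s), rfl⟩
  have hperp : ∀ i s (j : Fin 2) t, B (![![u, w], ![T u, T w]] j t) (e i s) = 0 := by
    intro i s j t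
    obtain ⟨a0, a, b⟩ := (mem_perpPair _ _ _ _ _).1 (hmem i s)
    obtain ⟨_, c, d⟩ := (mem_perpPair _ _ _ _ _).1 a0
    fin_cases j <;> fin_cases t
    · exact c
    · exact d
    · exact a
    · exact b
  refine ⟨ι ⊕ Fin 2, inferInstance, inferInstance, Sum.elim e ![![u, w], ![T u, T w]],
    Equiv.sumCongr π (Equiv.swap 0 1), ?_, ?_, ?_, ?_, ?_⟩
  · rintro (i | i)
    · exact h1 i
    · fin_cases i
      · exact huw
      · exact hTuw
  · rintro (i | i) (j | j) hij s t
    · exact h2 i j (fun h => hij (by rw [h])) s t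
    · rw [skew_of_alt hB]
      simp only [Sum.elim_inl, Sum.elim_inr]
      rw [hperp, neg_zero]
    · exact hperp j t i s
    · fin_cases i <;> fin_cases j
      · exact absurd rfl hij
      · fin_cases s <;> fin_cases t
        · exact r1
        · exact r2
        · exact r3
        · exact r4
      · fin_cases s <;> fin_cases t
        · show B (T u) u = 0
          rw [skew_of_alt hB, r1, neg_zero]
        · show B (T u) w = 0
          rw [skew_of_alt hB, r3, neg_zero]
        · show B (T w) u = 0
          rw [skew_of_alt hB, r2, neg_zero]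
        · show B (T w) w = 0
          rw [skew_of_alt hB, r4, neg_zero]
      · exact absurd rfl hij
  · apply le_antisymm
    · rw [span_le]
      rintro _ ⟨⟨(i | i), s⟩, rfl⟩
      · exact perpPair_le B W u w (perpPair_le B _ _ _ (hmem i s))
      · fin_cases i <;> fin_cases s
        · exact hu
        · exact hw
        · exact hTW u hu
        · exact hTW w hw
    · intro y hy
      obtain ⟨y₁, hy₁, α, γ, rfl⟩ := perpPair_decomp hB hu hw huw hy
      obtain ⟨y₂, hy₂, α', γ', rfl⟩ := perpPair_decomp hB hTu hTw hTuw hy₁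
      refine add_mem (add_mem (add_mem (add_mem ?_ (smul_mem _ _ ?_)) (smul_mem _ _ ?_))
        (smul_mem _ _ ?_)) (smul_mem _ _ ?_)
      · rw [← h3] at hy₂
        refine (span_le.2 ?_) hy₂
        rintro _ ⟨⟨i, s⟩, rfl⟩
        exact subset_span ⟨(Sum.inl i, s), rfl⟩
      · exact subset_span ⟨(Sum.inr 1, 0), rfl⟩
      · exact subset_span ⟨(Sum.inr 1, 1), rfl⟩
      · exact subset_span ⟨(Sum.inr 0, 0), rfl⟩
      · exact subset_span ⟨(Sum.inr 0, 1), rfl⟩
  · rintro (i | i)
    · simp [h4]
    · simp
  · rintro (i | i) s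
    · exact h5 i s
    · fin_cases i <;> fin_cases s
      · exact subset_span ⟨0, rfl⟩
      · exact subset_span ⟨1, rfl⟩
      · show T (T u) ∈ _
        rw [hT]
        exact smul_mem _ _ (subset_span ⟨0, rfl⟩)
      · show T (T w) ∈ _
        rw [hT]
        exact smul_mem _ _ (subset_span ⟨1, rfl⟩)


lemma apply_T_right {B : LinearMap.BilinForm F V} {T : V →ₗ[F] V} {z : F} (hz : z ≠ 0)
    (hIso : ∀ a b, B (T a) (T b) = B a b) (hT : ∀ v, T (T v) = z • v) (a y : V) :
    B a (T y) = z⁻¹ * B (T a) y := by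
  have h := hIso (T a) y
  rw [hT, map_smul, LinearMap.smul_apply, smul_eq_mul] at h
  rw [← h, ← mul_assoc, inv_mul_cancel₀ hz, one_mul]

lemma perpPair_invariant {B : LinearMap.BilinForm F V} {T : V →ₗ[F] V} {z : F} (hz : z ≠ 0)
    (hIso : ∀ a b, B (T a) (T b) = B a b) (hT : ∀ v, T (T v) = z • v) {W : Submodule F V}
    (hTW : ∀ v ∈ W, T v ∈ W) {u w : V}
    (hTu : T u ∈ span F (Set.range ![u, w])) (hTw : T w ∈ span F (Set.range ![u, w])) :
    ∀ y ∈ perpPair B W u w, T y ∈ perpPair B W u w := by
  intro y hy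
  obtain ⟨a, b, c⟩ := (mem_perpPair B W u w y).1 hy
  rw [range_pair] at hTu hTw
  obtain ⟨α, γ, h1⟩ := mem_span_pair.1 hTu
  obtain ⟨α', γ', h2⟩ := mem_span_pair.1 hTw
  rw [mem_perpPair]
  refine ⟨hTW y a, ?_, ?_⟩
  · rw [apply_T_right hz hIso hT, ← h1]
    simp [b, c]
  · rw [apply_T_right hz hIso hT, ← h2]
    simp [b, c]

theorem hasPlanes [FiniteDimensional F V] {B : LinearMap.BilinForm F V} (hB : B.IsAlt)
    {T : V →ₗ[F] V} {z : F} (hz : z ≠ 0)
    (hIso : ∀ a b, B (T a) (T b) = B a b) (hT : ∀ v, T (T v) = z • v) :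
    ∀ (n : ℕ) (W : Submodule F V), finrank F W = n → NondegOn B W → (∀ v ∈ W, T v ∈ W) →
      HasPlanes B T W := by
  intro n
  induction n using Nat.strong_induction_on with
  | _ n ih =>
    intro W hn hW hTW
    by_cases hbot : W = ⊥
    · refine ⟨Empty, inferInstance, inferInstance, fun i => i.elim, 1, fun i => i.elim,
        fun i => i.elim, ?_, fun i => i.elim, fun i => i.elim⟩
      rw [hbot, span_eq_bot]
      rintro _ ⟨⟨i, _⟩, _⟩
      exact i.elim
    · -- the step for an invariant plane
      have stepI : ∀ u ∈ W, ∀ w ∈ W, B u w ≠ 0 → T u ∈ span F (Set.range ![u, w]) →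
          T w ∈ span F (Set.range ![u, w]) → HasPlanes B T W := by
        intro u hu w hw huw hTu hTw
        have hlt := perpPair_finrank_lt (W := W) hw huw
        rw [hn] at hlt
        exact hasPlanes_stepI hB hu hw huw hTu hTw (ih _ hlt _ rfl (perpPair_nondeg hB hu hw huw hW)
          (perpPair_invariant hz hIso hT hTW hTu hTw))
      obtain ⟨v, hv, hv0⟩ := Submodule.exists_mem_ne_zero_of_ne_bot hbot
      by_cases h1 : ∃ v ∈ W, B v (T v) ≠ 0
      · obtain ⟨v, hv, hvT⟩ := h1
        refine stepI v hv (T v) (hTW v hv) hvT (subset_span ⟨1, rfl⟩) ?_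
        rw [hT]
        exact smul_mem _ _ (subset_span ⟨0, rfl⟩)
      · push Not at h1
        have hpol : ∀ a ∈ W, ∀ b ∈ W, B b (T a) = - B a (T b) := by
          intro a ha b hb
          have h3 := h1 (a + b) (W.add_mem ha hb)
          simp only [map_add, LinearMap.add_apply, h1 a ha, h1 b hb] at h3
          linear_combination h3
        by_cases h2 : ∃ u ∈ W, ∃ w ∈ W, B u w ≠ 0 ∧ B u (T w) = 0
        · obtain ⟨u, hu, w, hw, huw, r2⟩ := h2
          have r1 := h1 u hu
          have r4 := h1 w hw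
          have r3 : B w (T u) = 0 := by rw [hpol u hu w hw, r2, neg_zero]
          have hTu : T u ∈ perpPair B W u w := (mem_perpPair B W u w _).2 ⟨hTW u hu, r1, r3⟩
          have hTw : T w ∈ perpPair B W u w := (mem_perpPair B W u w _).2 ⟨hTW w hw, r2, r4⟩
          have hTuw : B (T u) (T w) ≠ 0 := by rw [hIso]; exact huw
          have hlt1 := perpPair_finrank_lt (W := W) hw huw
          have hlt2 := perpPair_finrank_lt (W := perpPair B W u w) hTw hTuw
          have hlt := hlt2.trans hlt1
          rw [hn] at hlt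
          refine hasPlanes_stepII hB hIso hT hTW hu hw huw r1 r2 r3 r4 (ih _ hlt _ rfl
            (perpPair_nondeg hB hTu hTw hTuw (perpPair_nondeg hB hu hw huw hW)) ?_)
          intro y hy
          obtain ⟨a0, a, b⟩ := (mem_perpPair _ _ _ _ _).1 hy
          obtain ⟨a1, c, d⟩ := (mem_perpPair _ _ _ _ _).1 a0
          rw [mem_perpPair, mem_perpPair]
          refine ⟨⟨hTW y a1, ?_, ?_⟩, ?_, ?_⟩
          · rw [apply_T_right hz hIso hT, a, mul_zero]
          · rw [apply_T_right hz hIso hT, b, mul_zero]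
          · rw [hIso, c]
          · rw [hIso, d]
        · push Not at h2
          have hscal : ∀ y ∈ W, ∃ c : F, T y = c • y := by
            intro y hy
            by_cases hy0 : y = 0
            · exact ⟨0, by simp [hy0]⟩
            have hTy0 : T y ≠ 0 := by
              intro h
              have := hT y
              rw [h, map_zero] at this
              exact hy0 ((smul_eq_zero.1 this.symm).resolve_left hz)
            obtain ⟨a₀, ha₀, h3⟩ := hW (T y) (hTW y hy) hTy0
            have h3' : B a₀ (T y) ≠ 0 := by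
              rw [skew_of_alt hB]; exact neg_ne_zero.2 h3
            set c := B a₀ y / B a₀ (T y) with hc
            have hyc : y - c • T y = 0 := by
              by_contra hne
              obtain ⟨a, ha, h4⟩ := hW _ (W.sub_mem hy (W.smul_mem c (hTW y hy))) hne
              apply h4
              have h5 : B (a - (B a (T y) / B a₀ (T y)) • a₀) (T y) = 0 := by
                simp only [map_sub, map_smul, LinearMap.sub_apply, LinearMap.smul_apply, smul_eq_mul]
                field_simp
                ring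
              have h6 : B (a - (B a (T y) / B a₀ (T y)) • a₀) y = 0 := by
                by_contra h7
                exact h2 _ (W.sub_mem ha (W.smul_mem _ ha₀)) y hy h7 h5
              simp only [map_sub, map_smul, LinearMap.sub_apply, LinearMap.smul_apply, smul_eq_mul] at h6
              rw [skew_of_alt hB]
              simp only [map_sub, map_smul, smul_eq_mul, hc]
              have h8 : B a y = B a (T y) / B a₀ (T y) * B a₀ y := by linear_combination h6
              rw [h8]
              field_simp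
              ring
            refine ⟨c * z, ?_⟩
            have h9 : y = c • T y := by rw [← sub_eq_zero]; exact hyc
            conv_lhs => rw [h9]
            rw [map_smul, hT, smul_smul]
          obtain ⟨y, hy, hvy⟩ := hW v hv hv0
          obtain ⟨c1, hc1⟩ := hscal v hv
          obtain ⟨c2, hc2⟩ := hscal y hy
          refine stepI v hv y hy hvy ?_ ?_
          · rw [hc1]; exact smul_mem _ _ (subset_span ⟨0, rfl⟩)
          · rw [hc2]; exact smul_mem _ _ (subset_span ⟨1, rfl⟩)

end Cfsg.Agent.Lib.Helper99
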