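import Mathlib

set_option autoImplicit false

namespace Cfsg.Agent.Lib.Helper99

open Module

variable {F V : Type*} [Field F] [AddCommGroup V] [Module F V]

/-- The form is nondegenerate on the submodule. -/
def NondegOn (B : LinearMap.BilinForm F V) (W : Submodule F V) : Prop :=
  ∀ v ∈ W, v ≠ 0 → ∃ y ∈ W, B v y ≠ 0

/-- The form vanishes on the submodule. -/
def IsoOn (B : LinearMap.BilinForm F V) (W : Submodule F V) : Prop :=
  ∀ u ∈ W, ∀ v ∈ W, B u v = 0

/-- The vectors of `W` orthogonal to `u` and `w`. -/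
def perpPair (B : LinearMap.BilinForm F V) (W : Submodule F V) (u w : V) : Submodule F V :=
  W ⊓ LinearMap.ker (B u) ⊓ LinearMap.ker (B w)

lemma mem_perpPair (B : LinearMap.BilinForm F V) (W : Submodule F V) (u w y : V) :
    y ∈ perpPair B W u w ↔ y ∈ W ∧ B u y = 0 ∧ B w y = 0 := by
  simp [perpPair, Submodule.mem_inf, LinearMap.mem_ker, and_assoc]

lemma perpPair_le (B : LinearMap.BilinForm F V) (W : Submodule F V) (u w : V) :
    perpPair B W u w ≤ W := fun y hy => ((mem_perpPair B W u w y).1 hy).1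

lemma skew_of_alt {B : LinearMap.BilinForm F V} (hB : B.IsAlt) (a b : V) : B a b = - B b a := by
  rw [hB.neg_eq]

lemma perpPair_decomp {B : LinearMap.BilinForm F V} (hB : B.IsAlt) {W : Submodule F V} {u w : V}
    (hu : u ∈ W) (hw : w ∈ W) (huw : B u w ≠ 0) {y : V} (hy : y ∈ W) :
    ∃ y₁ ∈ perpPair B W u w, ∃ α γ : F, y = y₁ + α • u + γ • w := by
  set c := B u w with hc
  have hwu : B w u = -c := by rw [hc, skew_of_alt hB w u]
  refine ⟨y - (-(B w y) / c) • u - (B u y / c) • w, ?_, -(B w y) / c, B u y / c, by abel⟩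
  rw [mem_perpPair]
  refine ⟨W.sub_mem (W.sub_mem hy (W.smul_mem _ hu)) (W.smul_mem _ hw), ?_, ?_⟩
  · simp only [map_sub, map_smul, smul_eq_mul, hB u, ← hc]
    field_simp
    ring
  · simp only [map_sub, map_smul, smul_eq_mul, hB w, hwu]
    field_simp
    ring

lemma perpPair_nondeg {B : LinearMap.BilinForm F V} (hB : B.IsAlt) {W : Submodule F V} {u w : V}
    (hu : u ∈ W) (hw : w ∈ W) (huw : B u w ≠ 0) (hW : NondegOn B W) :
    NondegOn B (perpPair B W u w) := by
  intro v hv hv0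
  obtain ⟨hvW, hv1, hv2⟩ := (mem_perpPair B W u w v).1 hv
  obtain ⟨y, hy, hvy⟩ := hW v hvW hv0
  obtain ⟨y₁, hy₁, α, γ, rfl⟩ := perpPair_decomp hB hu hw huw hy
  refine ⟨y₁, hy₁, ?_⟩
  have h1 : B v u = 0 := by rw [skew_of_alt hB, hv1, neg_zero]
  have h2 : B v w = 0 := by rw [skew_of_alt hB, hv2, neg_zero]
  simpa [h1, h2] using hvy

lemma perpPair_finrank_lt [FiniteDimensional F V] {B : LinearMap.BilinForm F V} {W : Submodule F V}
    {u w : V} (hw : w ∈ W) (huw : B u w ≠ 0) :
    finrank F (perpPair B W u w) < finrank F W := by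
  apply Submodule.finrank_lt_finrank_of_lt
  refine lt_of_le_of_ne (perpPair_le B W u w) ?_
  intro h
  have : w ∈ perpPair B W u w := by rw [h]; exact hw
  exact huw ((mem_perpPair B W u w w).1 this).2.1

lemma perpPair_sup {B : LinearMap.BilinForm F V} (hB : B.IsAlt) {W : Submodule F V} {u w : V}
    (hu : u ∈ W) (hw : w ∈ W) (huw : B u w ≠ 0) {U₁ U₂ : Submodule F V}
    (h : U₁ ⊔ U₂ = perpPair B W u w) :
    (U₁ ⊔ Submodule.span F {u}) ⊔ (U₂ ⊔ Submodule.span F {w}) = W := by
  apply le_antisymm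
  · have h1 : U₁ ≤ W := le_trans (le_trans le_sup_left h.le) (perpPair_le B W u w)
    have h2 : U₂ ≤ W := le_trans (le_trans le_sup_right h.le) (perpPair_le B W u w)
    refine sup_le (sup_le h1 ?_) (sup_le h2 ?_)
    · rw [Submodule.span_singleton_le_iff_mem]; exact hu
    · rw [Submodule.span_singleton_le_iff_mem]; exact hw
  · intro y hy
    obtain ⟨y₁, hy₁, α, γ, rfl⟩ := perpPair_decomp hB hu hw huw hy
    rw [← h] at hy₁
    obtain ⟨a, ha, b, hb, rfl⟩ := Submodule.mem_sup.1 hy₁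
    have e : a + b + α • u + γ • w = (a + α • u) + (b + γ • w) := by abel
    rw [e]
    refine Submodule.add_mem_sup (Submodule.add_mem_sup ha ?_) (Submodule.add_mem_sup hb ?_)
    · exact Submodule.smul_mem _ _ (Submodule.mem_span_singleton_self u)
    · exact Submodule.smul_mem _ _ (Submodule.mem_span_singleton_self w)

lemma isoOn_sup_span {B : LinearMap.BilinForm F V} (hB : B.IsAlt) {U : Submodule F V} {u : V}
    (hU : IsoOn B U) (hu : ∀ a ∈ U, B u a = 0) : IsoOn B (U ⊔ Submodule.span F {u}) := by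
  intro a ha b hb
  obtain ⟨a₁, ha₁, a₂, ha₂, rfl⟩ := Submodule.mem_sup.1 ha
  obtain ⟨b₁, hb₁, b₂, hb₂, rfl⟩ := Submodule.mem_sup.1 hb
  obtain ⟨α, rfl⟩ := Submodule.mem_span_singleton.1 ha₂
  obtain ⟨β, rfl⟩ := Submodule.mem_span_singleton.1 hb₂
  have h1 : B a₁ u = 0 := by rw [skew_of_alt hB, hu a₁ ha₁, neg_zero]
  simp [hU a₁ ha₁ b₁ hb₁, hu b₁ hb₁, h1, hB u]


lemma apply_mem_of_sup_span {T : V →ₗ[F] V} {U U' : Submodule F V} {u : V}
    (h : ∀ v ∈ U, T v ∈ U') (hu : T u ∈ U') : ∀ v ∈ U ⊔ Submodule.span F {u}, T v ∈ U' := by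
  intro v hv
  obtain ⟨a, ha, b, hb, rfl⟩ := Submodule.mem_sup.1 hv
  obtain ⟨α, rfl⟩ := Submodule.mem_span_singleton.1 hb
  rw [map_add, map_smul]
  exact U'.add_mem (h a ha) (U'.smul_mem _ hu)

theorem exists_lagrangian_fix [FiniteDimensional F V] {B : LinearMap.BilinForm F V} (hB : B.IsAlt)
    (h2 : (2 : F) ≠ 0) {T : V →ₗ[F] V} (hIso : ∀ u v, B (T u) (T v) = B u v)
    (hT : ∀ v, T (T v) = v) :
    ∀ (n : ℕ) (W : Submodule F V), finrank F W = n → NondegOn B W → (∀ v ∈ W, T v ∈ W) →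
    ∃ U₁ U₂ : Submodule F V, IsoOn B U₁ ∧ IsoOn B U₂ ∧ U₁ ⊔ U₂ = W ∧
      (∀ v ∈ U₁, T v ∈ U₁) ∧ (∀ v ∈ U₂, T v ∈ U₂) := by
  intro n
  induction n using Nat.strong_induction_on with
  | _ n ih =>
    intro W hn hW hTW
    by_cases hbot : W = ⊥
    · refine ⟨⊥, ⊥, ?_, ?_, by simp [hbot], ?_, ?_⟩ <;> simp [IsoOn]
    · obtain ⟨v, hv, hv0⟩ := Submodule.exists_mem_ne_zero_of_ne_bot hbot
      obtain ⟨u, hu, hu0, δ, hδ, hTu⟩ : ∃ u ∈ W, u ≠ 0 ∧ ∃ δ : F, δ * δ = 1 ∧ T u = δ • u := by
        by_cases h : v + T v = 0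
        · refine ⟨v - T v, W.sub_mem hv (hTW v hv), ?_, -1, by ring, ?_⟩
          · intro h'
            have h3 : (2 : F) • v = 0 := by
              have : (2 : F) • v = (v + T v) + (v - T v) := by rw [two_smul]; abel
              rw [this, h, h', add_zero]
            exact hv0 ((smul_eq_zero.1 h3).resolve_left h2)
          · simp [hT]
        · refine ⟨v + T v, W.add_mem hv (hTW v hv), h, 1, by ring, ?_⟩
          simp [hT, add_comm]
      obtain ⟨y, hy, huy⟩ := hW u hu hu0
      set w := y + δ • T y with hw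
      have hwW : w ∈ W := W.add_mem hy (W.smul_mem _ (hTW y hy))
      have hTw : T w = δ • w := by
        simp [hw, hT, smul_add, smul_smul, hδ, add_comm]
      have key : ∀ (e : V), T e = δ • e → ∀ y', B e (T y') = δ * B e y' := by
        intro e he y'
        rw [← hIso e (T y'), hT, he]; simp
      have huw : B u w ≠ 0 := by
        have h3 : B u w = 2 * B u y := by
          simp only [hw, map_add, map_smul, smul_eq_mul, key u hTu, ← mul_assoc, hδ]; ring
        rw [h3]; exact mul_ne_zero h2 huy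
      have hlt := perpPair_finrank_lt (W := W) hwW huw
      rw [hn] at hlt
      obtain ⟨U₁, U₂, h1, h2', h3, h4, h5⟩ := ih _ hlt (perpPair B W u w) rfl
        (perpPair_nondeg hB hu hwW huw hW) (by
          intro y' hy'
          obtain ⟨a, b, c⟩ := (mem_perpPair B W u w y').1 hy'
          rw [mem_perpPair]
          exact ⟨hTW y' a, by rw [key u hTu, b, mul_zero], by rw [key w hTw, c, mul_zero]⟩)
      have hU₁ : ∀ a ∈ U₁, B u a = 0 := fun a ha =>
        ((mem_perpPair B W u w a).1 (h3 ▸ (Submodule.mem_sup_left ha))).2.1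
      have hU₂ : ∀ a ∈ U₂, B w a = 0 := fun a ha =>
        ((mem_perpPair B W u w a).1 (h3 ▸ (Submodule.mem_sup_right ha))).2.2
      refine ⟨U₁ ⊔ Submodule.span F {u}, U₂ ⊔ Submodule.span F {w}, isoOn_sup_span hB h1 hU₁,
        isoOn_sup_span hB h2' hU₂, perpPair_sup hB hu hwW huw h3, ?_, ?_⟩
      · apply apply_mem_of_sup_span (fun v hv => Submodule.mem_sup_left (h4 v hv))
        rw [hTu]
        exact Submodule.mem_sup_right (Submodule.smul_mem _ _ (Submodule.mem_span_singleton_self u))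
      · apply apply_mem_of_sup_span (fun v hv => Submodule.mem_sup_left (h5 v hv))
        rw [hTw]
        exact Submodule.mem_sup_right (Submodule.smul_mem _ _ (Submodule.mem_span_singleton_self w))

theorem exists_lagrangian_swap [FiniteDimensional F V] {B : LinearMap.BilinForm F V} (hB : B.IsAlt)
    (h2 : (2 : F) ≠ 0) {T : V →ₗ[F] V} (hIso : ∀ u v, B (T u) (T v) = B u v)
    (hT : ∀ v, T (T v) = -v) :
    ∀ (n : ℕ) (W : Submodule F V), finrank F W = n → NondegOn B W → (∀ v ∈ W, T v ∈ W) →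
    ∃ U₁ U₂ : Submodule F V, IsoOn B U₁ ∧ IsoOn B U₂ ∧ U₁ ⊔ U₂ = W ∧
      (∀ v ∈ U₁, T v ∈ U₂) ∧ (∀ v ∈ U₂, T v ∈ U₁) := by
  intro n
  induction n using Nat.strong_induction_on with
  | _ n ih =>
    intro W hn hW hTW
    by_cases hbot : W = ⊥
    · refine ⟨⊥, ⊥, ?_, ?_, by simp [hbot], ?_, ?_⟩ <;> simp [IsoOn]
    · obtain ⟨v, hv, hv0⟩ := Submodule.exists_mem_ne_zero_of_ne_bot hbot
      obtain ⟨u, hu, huTu⟩ : ∃ u ∈ W, B u (T u) ≠ 0 := by
        by_contra hcon
        push Not at hcon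
        have hpol : ∀ a ∈ W, ∀ b ∈ W, B a (T b) = 0 := by
          intro a ha b hb
          have h3 := hcon (a + b) (W.add_mem ha hb)
          have h4 : B b (T a) = B a (T b) := by
            rw [← hIso b (T a), hT, map_neg, skew_of_alt hB, neg_neg]
          simp only [map_add, LinearMap.add_apply, hcon a ha, hcon b hb, h4] at h3
          have h5 : 2 * B a (T b) = 0 := by linear_combination h3
          exact (mul_eq_zero.1 h5).resolve_left h2
        obtain ⟨y, hy, hvy⟩ := hW v hv hv0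
        apply hvy
        have := hpol v hv (-(T y)) (W.neg_mem (hTW y hy))
        simpa [hT] using this
      set w := T u with hw
      have hwW : w ∈ W := hTW u hu
      have hTw : T w = -u := hT u
      have hlt := perpPair_finrank_lt (W := W) hwW huTu
      rw [hn] at hlt
      obtain ⟨U₁, U₂, h1, h2', h3, h4, h5⟩ := ih _ hlt (perpPair B W u w) rfl
        (perpPair_nondeg hB hu hwW huTu hW) (by
          intro y' hy'
          obtain ⟨a, b, c⟩ := (mem_perpPair B W u w y').1 hy'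
          rw [mem_perpPair]
          refine ⟨hTW y' a, ?_, ?_⟩
          · rw [← hIso u (T y'), hT, map_neg, ← hw, c, neg_zero]
          · rw [hw, hIso, b])
      have hU₁ : ∀ a ∈ U₁, B u a = 0 := fun a ha =>
        ((mem_perpPair B W u w a).1 (h3 ▸ (Submodule.mem_sup_left ha))).2.1
      have hU₂ : ∀ a ∈ U₂, B w a = 0 := fun a ha =>
        ((mem_perpPair B W u w a).1 (h3 ▸ (Submodule.mem_sup_right ha))).2.2
      refine ⟨U₁ ⊔ Submodule.span F {u}, U₂ ⊔ Submodule.span F {w}, isoOn_sup_span hB h1 hU₁,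
        isoOn_sup_span hB h2' hU₂, perpPair_sup hB hu hwW huTu h3, ?_, ?_⟩
      · apply apply_mem_of_sup_span (fun v hv => Submodule.mem_sup_left (h4 v hv))
        exact Submodule.mem_sup_right (Submodule.mem_span_singleton_self w)
      · apply apply_mem_of_sup_span (fun v hv => Submodule.mem_sup_left (h5 v hv))
        rw [hTw]
        exact Submodule.mem_sup_right (Submodule.neg_mem _ (Submodule.mem_span_singleton_self u))

end Cfsg.Agent.Lib.Helper99
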