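import Cfsg.Prelude.Def_GeometricClasses
import Cfsg.Agent.Lib.Helper99.DetPlanes

set_option autoImplicit false
open scoped MatrixGroups

namespace Cfsg.Agent.Lib.Helper99

variable {F : Type*} [Field F] {ι : Type} [Fintype ι] [DecidableEq ι]

/-- The bilinear form attached to a bilinear function. -/
noncomputable def formB {f : (ι → F) → (ι → F) → F} (hf : Cfsg.Geo.IsBilinearForm f) :
    LinearMap.BilinForm F (ι → F) :=
  LinearMap.mk₂ F f hf.add_left hf.smul_left hf.add_right hf.smul_right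

omit [Fintype ι] [DecidableEq ι] in
lemma formB_apply {f : (ι → F) → (ι → F) → F} (hf : Cfsg.Geo.IsBilinearForm f) (u v : ι → F) :
    formB hf u v = f u v := rfl

omit [Fintype ι] [DecidableEq ι] in
lemma formB_isAlt {f : (ι → F) → (ι → F) → F} (hf : Cfsg.Geo.IsSymplecticForm f) :
    (formB hf.bilinear).IsAlt := fun v => hf.alternating v

omit [Fintype ι] [DecidableEq ι] in
lemma formB_nondeg {f : (ι → F) → (ι → F) → F} (hf : Cfsg.Geo.IsSymplecticForm f) :
    NondegOn (formB hf.bilinear) ⊤ := by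
  intro u _ hu
  obtain ⟨x, hx⟩ := (hf.nondegenerate u hu).2
  exact ⟨x, trivial, hx⟩

/-- A linear conjugator of determinant one gives a conjugator in the special linear group. -/
theorem exists_sl_conj (x : Matrix.SpecialLinearGroup ι F) (P : (ι → F) ≃ₗ[F] (ι → F))
    (hdet : LinearMap.det (P : (ι → F) →ₗ[F] (ι → F)) = 1) :
    ∃ P' : Matrix.SpecialLinearGroup ι F, ∀ u,
      ((P'⁻¹ * x * P' : Matrix.SpecialLinearGroup ι F) : Matrix ι ι F).mulVec u =
        P.symm (Matrix.toLin' (x : Matrix ι ι F) (P u)) := by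
  refine ⟨⟨LinearMap.toMatrix' (P : (ι → F) →ₗ[F] (ι → F)), by rw [LinearMap.det_toMatrix']; exact hdet⟩, ?_⟩
  intro u
  set P' : Matrix.SpecialLinearGroup ι F :=
    ⟨LinearMap.toMatrix' (P : (ι → F) →ₗ[F] (ι → F)), by rw [LinearMap.det_toMatrix']; exact hdet⟩ with hP'
  have h1 : P' * (P'⁻¹ * x * P') = x * P' := by group
  generalize P'⁻¹ * x * P' = y at h1 ⊢
  have h2 := congrArg (fun y : Matrix.SpecialLinearGroup ι F => (y : Matrix ι ι F).mulVec u) h1
  simp only [Matrix.SpecialLinearGroup.coe_mul] at h2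
  rw [← Matrix.mulVec_mulVec, ← Matrix.mulVec_mulVec] at h2
  have h3 : ∀ w, (P' : Matrix ι ι F).mulVec w = P w := by
    intro w
    show (LinearMap.toMatrix' (P : (ι → F) →ₗ[F] (ι → F))).mulVec w = P w
    rw [← Matrix.toLin'_apply, Matrix.toLin'_toMatrix']
    rfl
  rw [h3, h3] at h2
  rw [LinearEquiv.eq_symm_apply, Matrix.toLin'_apply]
  exact h2

end Cfsg.Agent.Lib.Helper99
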